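import Mathlib
import Cfsg.Agent.Characters.GaloisBasic
import Cfsg.Agent.Blocks.Local
import Cfsg.Agent.H613.RegGram

/-!
# Galois families and the arithmetic-geometric mean bound

`GalFam q F`: `F k` is an algebraic integer depending on `k` modulo `q` only, and every ring
endomorphism of `ℂ` acting on the `q`-th roots of unity as the `m`-th power map maps `F k` to
`F (k * m)`.  Such families are closed under the ring operations and complex conjugation.

`GalFam.card_le_sum`: if `F 1 ≠ 0` and all `F u / p ^ h` are local integers then the average of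
`‖F u‖ ^ 2` over the units `u` modulo `q` is at least `p ^ (2 * h)`.
-/

set_option autoImplicit false

open scoped ComplexConjugate
open Cfsg Cfsg.Agent.Characters.GaloisBasic Cfsg.Agent.Blocks.Local

namespace Cfsg.Agent.H616

/-- Galois families of algebraic integers in the `q`-th cyclotomic field. -/
structure GalFam (q : ℕ) (F : ℕ → ℂ) : Prop where
  integral : ∀ k, IsIntegral ℤ (F k)
  periodic : ∀ k k' : ℕ, k ≡ k' [MOD q] → F k = F k'
  gal : ∀ (σ : ℂ →+* ℂ) (m : ℕ), (∀ z : ℂ, z ^ q = 1 → σ z = z ^ m) → ∀ k, σ (F k) = F (k * m)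

variable {q : ℕ} {F F' : ℕ → ℂ}

theorem GalFam.add (h : GalFam q F) (h' : GalFam q F') : GalFam q (fun k => F k + F' k) :=
  ⟨fun k => (h.integral k).add (h'.integral k),
    fun k k' hk => by rw [h.periodic k k' hk, h'.periodic k k' hk],
    fun σ m hσ k => by rw [map_add, h.gal σ m hσ, h'.gal σ m hσ]⟩

theorem GalFam.mul (h : GalFam q F) (h' : GalFam q F') : GalFam q (fun k => F k * F' k) :=
  ⟨fun k => (h.integral k).mul (h'.integral k),
    fun k k' hk => by rw [h.periodic k k' hk, h'.periodic k k' hk],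
    fun σ m hσ k => by rw [map_mul, h.gal σ m hσ, h'.gal σ m hσ]⟩

theorem GalFam.neg (h : GalFam q F) : GalFam q (fun k => - F k) :=
  ⟨fun k => (h.integral k).neg,
    fun k k' hk => by rw [h.periodic k k' hk],
    fun σ m hσ k => by rw [map_neg, h.gal σ m hσ]⟩

theorem GalFam.sub (h : GalFam q F) (h' : GalFam q F') : GalFam q (fun k => F k - F' k) := by
  simpa only [sub_eq_add_neg] using h.add h'.neg

theorem galFam_intCast (c : ℤ) : GalFam q (fun _ => (c : ℂ)) :=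
  ⟨fun _ => isIntegral_algebraMap, fun _ _ _ => rfl, fun σ _ _ _ => map_intCast σ c⟩

theorem galFam_natCast (c : ℕ) : GalFam q (fun _ => (c : ℂ)) := by
  simpa using galFam_intCast (q := q) (c : ℤ)

theorem galFam_root {e : ℂ} (hq : q ≠ 0) (he : e ^ q = 1) : GalFam q (fun k => e ^ k) := by
  refine ⟨fun k => ?_, fun k k' hk => ?_, fun σ m hσ k => ?_⟩
  · refine (IsIntegral.of_pow (Nat.pos_of_ne_zero hq) ?_).pow k
    rw [he]; exact isIntegral_one
  · have h1 : e ^ k = e ^ k' := by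
      have h2 : ∀ j : ℕ, e ^ j = e ^ (j % q) := fun j => by
        conv_lhs => rw [← Nat.div_add_mod j q, pow_add, pow_mul, he, one_pow, one_mul]
      rw [h2 k, h2 k', hk]
    exact h1
  · rw [hσ (e ^ k) (by rw [← pow_mul, mul_comm, pow_mul, he, one_pow]), pow_mul]

theorem galFam_sum {ι : Type*} (s : Finset ι) {F : ι → ℕ → ℂ} (h : ∀ i ∈ s, GalFam q (F i)) :
    GalFam q (fun k => ∑ i ∈ s, F i k) :=
  ⟨fun k => IsIntegral.sum _ fun i hi => (h i hi).integral k,
    fun k k' hk => Finset.sum_congr rfl fun i hi => (h i hi).periodic k k' hk,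
    fun σ m hσ k => by
      rw [map_sum]
      exact Finset.sum_congr rfl fun i hi => (h i hi).gal σ m hσ k⟩

theorem conj_root (hq : q ≠ 0) {z : ℂ} (hz : z ^ q = 1) : conj z = z ^ (q - 1) := by
  have hn : ‖z‖ = 1 := Complex.norm_eq_one_of_pow_eq_one hz hq
  have h4 : conj z * z = 1 := by
    rw [mul_comm, Complex.mul_conj, Complex.normSq_eq_norm_sq, hn]
    norm_num
  have h5 : z ^ (q - 1) * z = 1 := by
    rw [← pow_succ, Nat.sub_add_cancel (Nat.one_le_iff_ne_zero.2 hq), hz]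
  have hz0 : z ≠ 0 := by
    intro h
    rw [h, zero_pow hq] at hz
    exact zero_ne_one hz
  exact mul_right_cancel₀ hz0 (h4.trans h5.symm)

theorem GalFam.conj_eq (hq : q ≠ 0) (h : GalFam q F) (k : ℕ) : conj (F k) = F (k * (q - 1)) :=
  h.gal (starRingEnd ℂ) (q - 1) (fun _ hz => conj_root hq hz) k

theorem GalFam.conj (hq : q ≠ 0) (h : GalFam q F) : GalFam q (fun k => conj (F k)) := by
  simp only [h.conj_eq hq]
  refine ⟨fun k => h.integral _, fun k k' hk => h.periodic _ _ (hk.mul_right _),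
    fun σ m hσ k => ?_⟩
  rw [h.gal σ m hσ, mul_right_comm]

theorem GalFam.ne_zero (hq : q ≠ 0) (h : GalFam q F) (h1 : F 1 ≠ 0) {k : ℕ}
    (hk : k.Coprime q) : F k ≠ 0 := by
  obtain ⟨σ, hσ⟩ := exists_ringEquiv_pow hq hk
  have h2 := h.gal (σ : ℂ →+* ℂ) k hσ 1
  rw [one_mul] at h2
  rw [← h2]
  exact (map_ne_zero_iff _ (σ : ℂ →+* ℂ).injective).2 h1

theorem GalFam.eq_zero (hq : q ≠ 0) (h : GalFam q F) (h1 : F 1 = 0) {k : ℕ}
    (hk : k.Coprime q) : F k = 0 := by
  obtain ⟨σ, hσ⟩ := exists_ringEquiv_pow hq hk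
  have h2 := h.gal (σ : ℂ →+* ℂ) k hσ 1
  rw [one_mul] at h2
  rw [← h2, h1, map_zero]

/-- The units modulo `q` as exponents. -/
theorem GalFam.exists_prod [NeZero q] (h : GalFam q F) :
    ∃ m : ℤ, ∏ u : (ZMod q)ˣ, F (u : ZMod q).val = m := by
  have hint : IsIntegral ℤ (∏ u : (ZMod q)ˣ, F (u : ZMod q).val) :=
    IsIntegral.prod _ fun u _ => h.integral _
  refine exists_int_of_isIntegral hint (exists_rat_of_forall_ringEquiv hint.tower_top ?_)
  intro σ
  obtain ⟨m, hm, hσ⟩ := exists_coprime_pow (σ : ℂ →+* ℂ) (NeZero.ne q)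
  rw [map_prod]
  have h1 : ∀ u : (ZMod q)ˣ, σ (F (u : ZMod q).val) = F ((u : ZMod q).val * m) := fun u =>
    h.gal (σ : ℂ →+* ℂ) m hσ _
  simp only [h1]
  refine Fintype.prod_equiv (Equiv.mulLeft (ZMod.unitOfCoprime m hm)) _ _ fun u => ?_
  apply h.periodic
  rw [← ZMod.natCast_eq_natCast_iff]
  simp only [Nat.cast_mul, ZMod.natCast_val, ZMod.cast_id', id_eq, Equiv.coe_mulLeft,
    Units.val_mul, ZMod.coe_unitOfCoprime]
  ring

/-- The arithmetic-geometric mean bound, with divisibility. -/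
theorem GalFam.card_le_sum [NeZero q] (h : GalFam q F) (h1 : F 1 ≠ 0) {p : ℕ} {M : Ideal AlgInt}
    (hM : IsPModular p M) {t : ℕ} (ht : ∀ u : (ZMod q)ˣ,
      MemLocalRing M (F (u : ZMod q).val / (p : ℂ) ^ t)) :
    ((p : ℝ) ^ t) ^ 2 * Fintype.card (ZMod q)ˣ ≤ ∑ u : (ZMod q)ˣ, ‖F (u : ZMod q).val‖ ^ 2 := by
  have := isPrime_of_isPModular hM
  have hp := hM.1
  have hq : q ≠ 0 := NeZero.ne q
  obtain ⟨m, hm⟩ := h.exists_prod
  set N : ℕ := Fintype.card (ZMod q)ˣ with hN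
  have hNpos : (0 : ℝ) < N := by exact_mod_cast Fintype.card_pos
  have hp0 : (p : ℂ) ≠ 0 := by exact_mod_cast hp.ne_zero
  have hm0 : m ≠ 0 := by
    intro hm0
    rw [hm0, Int.cast_zero, Finset.prod_eq_zero_iff] at hm
    obtain ⟨u, -, hu⟩ := hm
    exact h.ne_zero hq h1 (ZMod.val_coe_unit_coprime u) hu
  -- divisibility
  have hdiv : (p : ℤ) ^ (t * N) ∣ m := by
    apply Cfsg.Agent.H613.RegGram.pow_dvd_of_memLocalRing hM
    have h2 : (m : ℂ) / (p : ℂ) ^ (t * N) =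
        ∏ u : (ZMod q)ˣ, (F (u : ZMod q).val / (p : ℂ) ^ t) := by
      rw [Finset.prod_div_distrib, hm, Finset.prod_const, Finset.card_univ, ← hN, pow_mul]
    rw [h2]
    exact memLocalRing_prod fun u _ => ht u
  have habs : ((p : ℝ) ^ t) ^ N ≤ |(m : ℝ)| := by
    have h2 := Int.le_of_dvd (abs_pos.2 hm0) ((dvd_abs _ _).2 hdiv)
    have h3 : (((p : ℤ) ^ (t * N) : ℤ) : ℝ) ≤ ((|m| : ℤ) : ℝ) := by exact_mod_cast h2
    rw [← pow_mul]
    simpa using h3
  have hprod : ∏ u : (ZMod q)ˣ, ‖F (u : ZMod q).val‖ ^ 2 = (|(m : ℝ)|) ^ 2 := by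
    rw [Finset.prod_pow, ← norm_prod, hm]
    simp
  have h2 := Real.geom_mean_le_arith_mean_weighted (Finset.univ : Finset (ZMod q)ˣ)
      (fun _ => (N : ℝ)⁻¹) (fun u => ‖F (u : ZMod q).val‖ ^ 2)
      (fun _ _ => inv_nonneg.2 hNpos.le)
      (by rw [Finset.sum_const, Finset.card_univ, nsmul_eq_mul, ← hN,
        mul_inv_cancel₀ hNpos.ne'])
      (fun u _ => by positivity)
  rw [Real.finsetProd_rpow _ _ (fun u _ => by positivity), ← Finset.mul_sum, hprod] at h2
  have h3 : ((p : ℝ) ^ t) ^ 2 ≤ (|(m : ℝ)| ^ 2) ^ (N : ℝ)⁻¹ := by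
    have h4 : (((p : ℝ) ^ t) ^ 2) ^ N ≤ |(m : ℝ)| ^ 2 := by
      rw [← pow_mul, mul_comm 2 N, pow_mul]
      exact pow_le_pow_left₀ (by positivity) habs 2
    have h5 : (((p : ℝ) ^ t) ^ 2) = ((((p : ℝ) ^ t) ^ 2) ^ N) ^ (N : ℝ)⁻¹ := by
      rw [Real.pow_rpow_inv_natCast (by positivity) Fintype.card_ne_zero]
    rw [h5]
    exact Real.rpow_le_rpow (by positivity) h4 (inv_nonneg.2 hNpos.le)
  have h4 := h3.trans h2
  rw [← div_eq_inv_mul, le_div_iff₀ hNpos] at h4
  exact h4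

/-- The arithmetic-geometric mean bound. -/
theorem GalFam.card_le_sum_one [NeZero q] (h : GalFam q F) (h1 : F 1 ≠ 0) {p : ℕ}
    {M : Ideal AlgInt} (hM : IsPModular p M) :
    (Fintype.card (ZMod q)ˣ : ℝ) ≤ ∑ u : (ZMod q)ˣ, ‖F (u : ZMod q).val‖ ^ 2 := by
  have := isPrime_of_isPModular hM
  have h2 := h.card_le_sum h1 hM (t := 0) (fun u => by
    rw [pow_zero, div_one]
    exact memLocalRing_of_isIntegral (h.integral _))
  simpa using h2

end Cfsg.Agent.H616
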