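import Mathlib

/-!
# Integral factorisation of a multiple of a symmetric idempotent

A symmetric integral matrix `P` with `P * P = N • P` factors as `P = D * A * Dᵀ` with `D` integral,
left invertible over the integers, and `A * (Dᵀ * D) = N • 1`.  (For `P = p ^ d * rg` on a block of
defect `d`, `D` is a decomposition matrix with respect to a basic set and `Dᵀ * D` is the Cartan
matrix.)
-/

set_option autoImplicit false

open Matrix

namespace Cfsg.Agent.H616

/-- The factorisation. -/
structure Factor {ι : Type*} [Fintype ι] [DecidableEq ι] (P : Matrix ι ι ℤ) (N : ℤ) {l : ℕ}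
    (D : Matrix ι (Fin l) ℤ) (E : Matrix (Fin l) ι ℤ) (A : Matrix (Fin l) (Fin l) ℤ) : Prop where
  left_inv : E * D = 1
  eq : P = D * A * Dᵀ
  mul : A * (Dᵀ * D) = N • 1
  symm : Aᵀ = A

variable {ι : Type*} [Fintype ι] [DecidableEq ι] {P : Matrix ι ι ℤ} {N : ℤ}

theorem exists_factor (hs : Pᵀ = P) (hP : P * P = N • P) :
    ∃ (l : ℕ) (D : Matrix ι (Fin l) ℤ) (E : Matrix (Fin l) ι ℤ) (A : Matrix (Fin l) (Fin l) ℤ),
      Factor P N D E A := by
  classical
  set f : (ι → ℤ) →ₗ[ℤ] (ι → ℤ) := P.mulVecLin with hf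
  let L := LinearMap.range f
  let bL := Module.finBasis ℤ L
  set l := Module.finrank ℤ L with hl
  obtain ⟨s, hs'⟩ := Module.projective_lifting_property f.rangeRestrict (LinearMap.id (R := ℤ) (M := L))
    f.surjective_rangeRestrict
  have hs1 : ∀ v : L, f.rangeRestrict (s v) = v := fun v => by
    exact LinearMap.congr_fun hs' v
  -- the two matrices
  let D : Matrix ι (Fin l) ℤ := fun j i => bL.repr (f.rangeRestrict (Pi.single j 1)) i
  let E : Matrix (Fin l) ι ℤ := fun i j => s (bL i) j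
  have hD : ∀ x : ι → ℤ, Dᵀ *ᵥ x = fun i => bL.repr (f.rangeRestrict x) i := by
    intro x
    have hx : x = ∑ j, x j • (Pi.single j 1 : ι → ℤ) := by
      funext k
      simp [Finset.sum_apply, Pi.single_apply]
    funext i
    conv_rhs => rw [hx]
    rw [map_sum, map_sum, Finsupp.finsetSum_apply]
    simp only [mulVec, dotProduct, D]
    refine Finset.sum_congr rfl fun j _ => ?_
    rw [map_smul, map_smul, Finsupp.smul_apply, smul_eq_mul, mul_comm]
    rfl
  have hE : ∀ v : Fin l → ℤ, Eᵀ *ᵥ v = s (∑ i, v i • bL i) := by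
    intro v
    funext j
    rw [map_sum]
    simp only [mulVec, dotProduct, E, Finset.sum_apply, map_smul, Pi.smul_apply,
      smul_eq_mul]
    exact Finset.sum_congr rfl fun i _ => mul_comm _ _
  have h1 : E * D = 1 := by
    have h2 : Dᵀ * Eᵀ = 1 := by
      apply Matrix.toLin'.injective
      apply LinearMap.ext
      intro v
      rw [toLin'_apply, ← mulVec_mulVec, hE, hD, hs1, toLin'_apply, one_mulVec]
      funext i
      rw [map_sum, Finsupp.finsetSum_apply]
      simp [Finsupp.single_apply]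
    have h3 := congrArg transpose h2
    rwa [transpose_mul, transpose_transpose, transpose_transpose, transpose_one] at h3
  have h2 : P * Eᵀ * Dᵀ = P := by
    apply Matrix.toLin'.injective
    apply LinearMap.ext
    intro x
    rw [toLin'_apply, ← mulVec_mulVec, ← mulVec_mulVec, hE, hD, toLin'_apply, bL.sum_repr]
    have h3 := hs1 (f.rangeRestrict x)
    have h4 := congrArg (Subtype.val) h3
    exact h4
  have h3 : D * (E * P) = P := by
    have h4 := congrArg transpose h2
    rwa [transpose_mul, transpose_mul, transpose_transpose, transpose_transpose, hs] at h4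
  have h4 : P = D * (E * P * Eᵀ) * Dᵀ := by
    have : D * (E * P * Eᵀ) * Dᵀ = D * (E * (P * Eᵀ * Dᵀ)) := by
      simp only [Matrix.mul_assoc]
    rw [this, h2, h3]
  have hsA : (E * P * Eᵀ)ᵀ = E * P * Eᵀ := by
    rw [transpose_mul, transpose_mul, transpose_transpose, hs, Matrix.mul_assoc]
  have h1' : Dᵀ * Eᵀ = 1 := by
    rw [← transpose_mul, h1, transpose_one]
  obtain ⟨A, hA⟩ : ∃ A : Matrix (Fin l) (Fin l) ℤ, A = E * P * Eᵀ := ⟨_, rfl⟩
  rw [← hA] at h4 hsA
  have h5 : A * (Dᵀ * D) * A = N • A := by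
    have h6 : A * (Dᵀ * D) * A = E * (D * A * Dᵀ * (D * A * Dᵀ)) * Eᵀ := by
      have : E * (D * A * Dᵀ * (D * A * Dᵀ)) * Eᵀ =
          (E * D) * (A * (Dᵀ * D) * A) * (Dᵀ * Eᵀ) := by simp only [Matrix.mul_assoc]
      rw [this, h1, h1', Matrix.one_mul, Matrix.mul_one]
    rw [h6, ← h4, hP, Matrix.mul_smul, Matrix.smul_mul, ← hA]
  -- injectivity of `A`
  have h6 : ∀ v : Fin l → ℤ, A *ᵥ v = 0 → v = 0 := by
    intro v hv
    have h7 : P *ᵥ (Eᵀ *ᵥ v) = 0 := by
      rw [h4, ← mulVec_mulVec, ← mulVec_mulVec, mulVec_mulVec v Dᵀ Eᵀ, h1', one_mulVec, hv,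
        mulVec_zero]
    have h8 : f.rangeRestrict (s (∑ i, v i • bL i)) = 0 := by
      rw [← hE]
      exact Subtype.ext h7
    rw [hs1] at h8
    have h9 := Fintype.linearIndependent_iff.1 bL.linearIndependent v h8
    funext i
    exact h9 i
  have h7 : Dᵀ * D * A = N • 1 := by
    have h8 : ∀ v : Fin l → ℤ, (Dᵀ * D * A) *ᵥ v = N • v := by
      intro v
      have h9 : A *ᵥ ((Dᵀ * D * A) *ᵥ v - N • v) = 0 := by
        rw [mulVec_sub, mulVec_mulVec, ← Matrix.mul_assoc, h5, mulVec_smul, smul_mulVec, sub_self]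
      exact sub_eq_zero.1 (h6 _ h9)
    apply Matrix.toLin'.injective
    apply LinearMap.ext
    intro v
    rw [toLin'_apply, toLin'_apply, h8, smul_mulVec, one_mulVec]
  refine ⟨l, D, E, A, h1, h4, ?_, hsA⟩
  have h8 := congrArg transpose h7
  rwa [transpose_mul, transpose_mul, transpose_transpose, hsA, transpose_smul,
    transpose_one] at h8

variable {l : ℕ} {D : Matrix ι (Fin l) ℤ} {E : Matrix (Fin l) ι ℤ}
  {A : Matrix (Fin l) (Fin l) ℤ}

theorem Factor.trace (h : Factor P N D E A) : P.trace = N * l := by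
  rw [h.eq, Matrix.mul_assoc, Matrix.trace_mul_comm, Matrix.mul_assoc, h.mul,
    Matrix.trace_smul, Matrix.trace_one, smul_eq_mul, Fintype.card_fin]

theorem Factor.mul' (h : Factor P N D E A) : Dᵀ * D * A = N • 1 := by
  have h8 := congrArg transpose h.mul
  rwa [transpose_mul, transpose_mul Dᵀ, transpose_transpose, h.symm, transpose_smul,
    transpose_one] at h8

theorem Factor.right_inv (h : Factor P N D E A) : Dᵀ * Eᵀ = 1 := by
  rw [← transpose_mul, h.left_inv, transpose_one]

theorem Factor.eq' (h : Factor P N D E A) : A = E * P * Eᵀ := by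
  have : E * P * Eᵀ = (E * D) * A * (Dᵀ * Eᵀ) := by
    rw [h.eq]; simp only [Matrix.mul_assoc]
  rw [this, h.left_inv, h.right_inv, Matrix.one_mul, Matrix.mul_one]

/-- Change of basis. -/
theorem Factor.change (h : Factor P N D E A) {U V : Matrix (Fin l) (Fin l) ℤ} (hUV : V * U = 1) :
    Factor P N (D * U) (V * E) (V * A * Vᵀ) := by
  have hVU : U * V = 1 := mul_eq_one_comm.1 hUV
  have h1 : Vᵀ * Uᵀ = 1 := by rw [← transpose_mul, hVU, transpose_one]
  refine ⟨?_, ?_, ?_, ?_⟩
  · have : V * E * (D * U) = V * (E * D) * U := by simp only [Matrix.mul_assoc]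
    rw [this, h.left_inv, Matrix.mul_one, hUV]
  · rw [transpose_mul]
    have : D * U * (V * A * Vᵀ) * (Uᵀ * Dᵀ) = D * (U * V) * A * (Vᵀ * Uᵀ) * Dᵀ := by
      simp only [Matrix.mul_assoc]
    rw [this, hVU, h1, Matrix.mul_one, Matrix.mul_one]
    exact h.eq
  · rw [transpose_mul]
    have : V * A * Vᵀ * (Uᵀ * Dᵀ * (D * U)) = V * A * (Vᵀ * Uᵀ) * (Dᵀ * D) * U := by
      simp only [Matrix.mul_assoc]
    rw [this, h1, Matrix.mul_one, Matrix.mul_assoc V A, h.mul, Matrix.mul_smul, Matrix.mul_one,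
      Matrix.smul_mul, hUV]
  · rw [transpose_mul, transpose_mul, transpose_transpose, h.symm, Matrix.mul_assoc]

end Cfsg.Agent.H616
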