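import Mathlib
import Cfsg.Agent.H613.ContribVal
import Cfsg.Agent.H616.IntGram
import Cfsg.Agent.H616.GalFam

/-!
# Generalized decomposition numbers with respect to a basic set

For a block `b` of `H` there are integral matrices `D` (decomposition matrix), `E` (left inverse),
`A` with `p ^ d * rg = D * A * Dᵀ` and `A * (Dᵀ * D) = p ^ d`; `Dᵀ * D` is the Cartan matrix of `b`
with respect to a basic set.  For `H = C_G(u ^ k)`:

* `gd`: the generalized decomposition numbers of `ψ` at `u ^ k`;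
* `sum_gd_mul_conj_gd`: column orthogonality;
* `contr_eq_gd`: the contributions in terms of `gd` and `A`.
-/

set_option autoImplicit false
set_option linter.unusedSectionVars false

open Cfsg Matrix
open scoped ComplexConjugate

namespace Cfsg.Agent.H616

open Cfsg.Agent.Blocks.Blau Cfsg.Agent.Blocks.Local Cfsg.Agent.Characters
open Cfsg.Agent.H613.RegGram Cfsg.Agent.H613.Contrib Cfsg.Agent.H613.ContribVal

section basic

variable {K : Type*} [Group K] [Fintype K] {p : ℕ} [Fact p.Prime] {M : Ideal AlgInt}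

/-- The integral matrix `p ^ d * rg` of a block. -/
structure IsGram (p : ℕ) (b : Set (IrrCharacter K)) [Fintype b] (P : Matrix b b ℤ) : Prop where
  eq : ∀ ξ η : b, (p : ℂ) ^ blockDefect p b * rg p (ξ : K → ℂ) (η : K → ℂ) = P ξ η

theorem exists_isGram (hM : IsPModular p M) (b : Set (IrrCharacter K)) [Fintype b] :
    ∃ P : Matrix b b ℤ, IsGram p b P := by
  choose P hP using fun ξ η : b => exists_int_rg hM (B := b) ξ.2 (η : IrrCharacter K)
  exact ⟨P, ⟨hP⟩⟩

variable {b : Set (IrrCharacter K)} [Fintype b] {P : Matrix b b ℤ}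

theorem IsGram.symm (h : IsGram p b P) : Pᵀ = P := by
  ext ξ η
  have h1 := h.eq ξ η
  have h2 := h.eq η ξ
  rw [rg_comm p (Core.isIrr_isCharacter η.1.2) (Core.isIrr_isCharacter ξ.1.2), h1] at h2
  rw [transpose_apply]
  exact_mod_cast h2.symm

theorem IsGram.sq (hM : IsPModular p M) (hb : IsPBlock M b) (h : IsGram p b P) :
    P * P = ((p : ℤ) ^ blockDefect p b) • P := by
  ext ξ η
  have h1 := sum_rg_mul_rg hM hb (χ := (ξ : IrrCharacter K)) (ψ := (η : IrrCharacter K)) ξ.2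
  have h2 : (((P * P) ξ η : ℤ) : ℂ) = ((((p : ℤ) ^ blockDefect p b) • P) ξ η : ℤ) := by
    rw [Matrix.mul_apply, Matrix.smul_apply, smul_eq_mul]
    push_cast
    rw [← h.eq ξ η, ← h1]
    simp only [← h.eq]
    rw [Finset.mul_sum, Finset.mul_sum]
    exact Finset.sum_congr rfl fun ζ _ => by ring
  exact_mod_cast h2

theorem IsGram.trace (hM : IsPModular p M) (hb : IsPBlock M b) (h : IsGram p b P) :
    P.trace = (p : ℤ) ^ blockDefect p b * blockRank p b := by
  have h1 := sum_rg_self hM hb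
  have h2 : ((P.trace : ℤ) : ℂ) = (((p : ℤ) ^ blockDefect p b * blockRank p b : ℤ) : ℂ) := by
    push_cast
    rw [← h1, Matrix.trace, Finset.mul_sum]
    push_cast
    refine Finset.sum_congr rfl fun ζ _ => ?_
    rw [h.eq, Matrix.diag_apply]
  exact_mod_cast h2

/-- A block has a basic set. -/
theorem exists_factor_block (hM : IsPModular p M) (hb : IsPBlock M b) :
    ∃ (P : Matrix b b ℤ) (D : Matrix b (Fin (blockRank p b)) ℤ)
      (E : Matrix (Fin (blockRank p b)) b ℤ)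
      (A : Matrix (Fin (blockRank p b)) (Fin (blockRank p b)) ℤ),
      IsGram p b P ∧
        haveI := Classical.decEq b
        Factor P ((p : ℤ) ^ blockDefect p b) D E A := by
  classical
  obtain ⟨P, hP⟩ := exists_isGram hM b
  obtain ⟨l, D, E, A, h⟩ := exists_factor hP.symm (hP.sq hM hb)
  have h1 := h.trace
  rw [hP.trace hM hb] at h1
  have hp : (p : ℤ) ^ blockDefect p b ≠ 0 := pow_ne_zero _ (by exact_mod_cast hM.1.ne_zero)
  have h2 : blockRank p b = l := by exact_mod_cast mul_left_cancel₀ hp h1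
  subst h2
  refine ⟨P, D, E, A, hP, ?_⟩
  convert h

end basic

section gd

variable {G : Type*} [Group G] [Finite G] {p : ℕ} [Fact p.Prime] {M : Ideal AlgInt}
  {u : G} {H : Subgroup G} [Fintype H] [Fintype (IrrCharacter H)] {q : ℕ}
  {n : IrrCharacter G → IrrCharacter H → ℕ} {e : IrrCharacter H → ℂ}

/-- The generalized decomposition number of `ψ` at `u ^ k` for the column `D · i`. -/
noncomputable def gd (n : IrrCharacter G → IrrCharacter H → ℕ) (e : IrrCharacter H → ℂ)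
    {b : Set (IrrCharacter H)} [Fintype b] (x : b → ℤ) (ψ : IrrCharacter G) (k : ℕ) : ℂ :=
  ∑ ξ : b, (n ψ ξ : ℂ) * (x ξ : ℂ) * e ξ ^ k

theorem gd_def {b : Set (IrrCharacter H)} [Fintype b] (x : b → ℤ) (ψ : IrrCharacter G) (k : ℕ) :
    gd n e x ψ k = ∑ ξ : b, (n ψ ξ : ℂ) * (x ξ : ℂ) * e ξ ^ k := rfl

theorem gd_galFam (hE : Exp u H q n e) (hq : q ≠ 0) {b : Set (IrrCharacter H)} [Fintype b]
    (x : b → ℤ) (ψ : IrrCharacter G) : GalFam q (gd n e x ψ) := by
  have : GalFam q (fun k => ∑ ξ : b, (n ψ ξ : ℂ) * (x ξ : ℂ) * e ξ ^ k) :=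
    galFam_sum _ fun ξ _ => ((galFam_natCast _).mul (galFam_intCast _)).mul
      (galFam_root hq (hE.root ξ))
  exact this

theorem gd_add {b : Set (IrrCharacter H)} [Fintype b] (x y : b → ℤ) (ψ : IrrCharacter G) (k : ℕ) :
    gd n e (x + y) ψ k = gd n e x ψ k + gd n e y ψ k := by
  rw [gd_def, gd_def, gd_def, ← Finset.sum_add_distrib]
  refine Finset.sum_congr rfl fun ξ _ => ?_
  rw [Pi.add_apply]
  push_cast
  ring

theorem gd_sub {b : Set (IrrCharacter H)} [Fintype b] (x y : b → ℤ) (ψ : IrrCharacter G) (k : ℕ) :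
    gd n e (x - y) ψ k = gd n e x ψ k - gd n e y ψ k := by
  rw [gd_def, gd_def, gd_def, ← Finset.sum_sub_distrib]
  refine Finset.sum_congr rfl fun ξ _ => ?_
  rw [Pi.sub_apply]
  push_cast
  ring

variable {b : Set (IrrCharacter H)} [Fintype b] {P : Matrix b b ℤ} [DecidableEq b]
  {l : ℕ} {D : Matrix b (Fin l) ℤ} {E : Matrix (Fin l) b ℤ} {A : Matrix (Fin l) (Fin l) ℤ}

/-- The generalized decomposition numbers from the rows `wt`. -/
theorem wt_eq_gd (hM : IsPModular p M) (hE : Exp u H q n e) (hb : IsPBlock M b)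
    (hP : IsGram p b P) (hF : Factor P ((p : ℤ) ^ blockDefect p b) D E A)
    (ψ : IrrCharacter G) (k : ℕ) (η : b) :
    (p : ℂ) ^ blockDefect p b * wt p (u ^ k) (ψ : G → ℂ) (η : H → ℂ) =
      ∑ i, ∑ j, gd n e (fun ξ => D ξ i) ψ k * (A i j : ℂ) * (D η j : ℂ) := by
  rw [wt_eq_sum hM hE hb ψ k η.2, Finset.mul_sum]
  have h1 : ∀ ξ : b, (p : ℂ) ^ blockDefect p b * ((n ψ ξ : ℂ) * e ξ ^ k *
      rg p (ξ : H → ℂ) (η : H → ℂ)) = ∑ i, ∑ j, (n ψ ξ : ℂ) * (D ξ i : ℂ) * e ξ ^ k *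
        (A i j : ℂ) * (D η j : ℂ) := by
    intro ξ
    have h2 : (p : ℂ) ^ blockDefect p b * ((n ψ ξ : ℂ) * e ξ ^ k *
      rg p (ξ : H → ℂ) (η : H → ℂ)) = (n ψ ξ : ℂ) * e ξ ^ k * (P ξ η : ℂ) := by
      rw [← hP.eq]; ring
    rw [h2, hF.eq, Matrix.mul_assoc, Matrix.mul_apply]
    simp only [Matrix.mul_apply, Matrix.transpose_apply]
    push_cast
    rw [Finset.mul_sum]
    refine Finset.sum_congr rfl fun i _ => ?_
    rw [Finset.mul_sum, Finset.mul_sum]
    exact Finset.sum_congr rfl fun j _ => by ring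
  rw [Finset.sum_congr rfl fun ξ _ => h1 ξ, Finset.sum_comm]
  refine Finset.sum_congr rfl fun i _ => ?_
  rw [Finset.sum_comm]
  refine Finset.sum_congr rfl fun j _ => ?_
  rw [gd_def, Finset.sum_mul, Finset.sum_mul]

theorem factor_mul_apply (hF : Factor P ((p : ℤ) ^ blockDefect p b) D E A) (i k : Fin l) :
    ∑ j, (A i j : ℂ) * ∑ η : b, (D η j : ℂ) * (D η k : ℂ) =
      (p : ℂ) ^ blockDefect p b * (if i = k then 1 else 0) := by
  have h1 := congrFun (congrFun hF.mul i) k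
  rw [Matrix.mul_apply, Matrix.smul_apply, Matrix.one_apply] at h1
  simp only [Matrix.mul_apply, Matrix.transpose_apply] at h1
  have h2 : ((∑ j, A i j * ∑ η, D η j * D η k : ℤ) : ℂ) =
      ((((p : ℤ) ^ blockDefect p b) • (if i = k then 1 else 0) : ℤ) : ℂ) := by rw [h1]
  push_cast at h2
  rw [h2]
  split_ifs <;> simp

theorem gd_eq_sum_wt (hM : IsPModular p M) (hE : Exp u H q n e) (hb : IsPBlock M b)
    (hP : IsGram p b P) (hF : Factor P ((p : ℤ) ^ blockDefect p b) D E A)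
    (ψ : IrrCharacter G) (k : ℕ) (i : Fin l) :
    gd n e (fun ξ => D ξ i) ψ k =
      ∑ η : b, wt p (u ^ k) (ψ : G → ℂ) (η : H → ℂ) * (D η i : ℂ) := by
  have hp0 : (p : ℂ) ^ blockDefect p b ≠ 0 := pow_ne_zero _ (by exact_mod_cast hM.1.ne_zero)
  apply mul_left_cancel₀ hp0
  rw [Finset.mul_sum]
  have h1 : ∀ η : b, (p : ℂ) ^ blockDefect p b * (wt p (u ^ k) (ψ : G → ℂ) (η : H → ℂ) *
      (D η i : ℂ)) = ∑ i', ∑ j, gd n e (fun ξ => D ξ i') ψ k * (A i' j : ℂ) *
        ((D η j : ℂ) * (D η i : ℂ)) := by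
    intro η
    rw [← mul_assoc, wt_eq_gd hM hE hb hP hF, Finset.sum_mul]
    refine Finset.sum_congr rfl fun i' _ => ?_
    rw [Finset.sum_mul]
    exact Finset.sum_congr rfl fun j _ => by ring
  rw [Finset.sum_congr rfl fun η _ => h1 η, Finset.sum_comm]
  have h2 : ∀ i' : Fin l, ∑ η : b, ∑ j, gd n e (fun ξ => D ξ i') ψ k * (A i' j : ℂ) *
        ((D η j : ℂ) * (D η i : ℂ)) = gd n e (fun ξ => D ξ i') ψ k *
          ((p : ℂ) ^ blockDefect p b * (if i' = i then 1 else 0)) := by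
    intro i'
    rw [← factor_mul_apply hF i' i, Finset.sum_comm, Finset.mul_sum]
    refine Finset.sum_congr rfl fun j _ => ?_
    rw [Finset.mul_sum, Finset.mul_sum]
    exact Finset.sum_congr rfl fun η _ => by ring
  rw [Finset.sum_congr rfl fun i' _ => h2 i']
  simp only [mul_ite, mul_one, mul_zero]
  rw [Finset.sum_ite_eq' Finset.univ i, if_pos (Finset.mem_univ _), mul_comm]

/-- Column orthogonality of the generalized decomposition numbers. -/
theorem sum_gd_mul_conj_gd (hM : IsPModular p M) (hE : Exp u H q n e) {k : ℕ}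
    (hu : ∃ t : ℕ, orderOf (u ^ k) = p ^ t)
    (hk : H = Subgroup.centralizer ({u ^ k} : Set G)) {B : Set (IrrCharacter G)} [Fintype B]
    (hind : IsInducedBlock M H b B)
    (hP : IsGram p b P) (hF : Factor P ((p : ℤ) ^ blockDefect p b) D E A) (i j : Fin l) :
    ∑ ψ : B, gd n e (fun ξ => D ξ i) ψ k * conj (gd n e (fun ξ => D ξ j) ψ k) =
      ∑ η : b, (D η i : ℂ) * (D η j : ℂ) := by
  have hb := hind.1
  have hp0 : (p : ℂ) ^ blockDefect p b ≠ 0 := pow_ne_zero _ (by exact_mod_cast hM.1.ne_zero)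
  have h1 : ∀ ψ : B, gd n e (fun ξ => D ξ i) ψ k * conj (gd n e (fun ξ => D ξ j) ψ k) =
      ∑ η : b, ∑ η' : b, (D η i : ℂ) * (D η' j : ℂ) *
        (wt p (u ^ k) (ψ : G → ℂ) (η : H → ℂ) *
          conj (wt p (u ^ k) (ψ : G → ℂ) (η' : H → ℂ))) := by
    intro ψ
    rw [gd_eq_sum_wt hM hE hb hP hF, gd_eq_sum_wt hM hE hb hP hF, map_sum, Finset.sum_mul_sum]
    refine Finset.sum_congr rfl fun η _ => Finset.sum_congr rfl fun η' _ => ?_
    rw [map_mul, map_intCast (starRingEnd ℂ)]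
    ring
  rw [Finset.sum_congr rfl fun ψ _ => h1 ψ, Finset.sum_comm]
  have h2 : ∀ η : b, ∑ ψ : B, ∑ η' : b, (D η i : ℂ) * (D η' j : ℂ) *
        (wt p (u ^ k) (ψ : G → ℂ) (η : H → ℂ) *
          conj (wt p (u ^ k) (ψ : G → ℂ) (η' : H → ℂ))) =
      ∑ η' : b, (D η i : ℂ) * (D η' j : ℂ) * rg p (η' : H → ℂ) (η : H → ℂ) := by
    intro η
    rw [Finset.sum_comm]
    refine Finset.sum_congr rfl fun η' _ => ?_
    rw [← Finset.mul_sum, sum_wt_mul_conj_wt hM hu hk hind η.2 η'.2]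
  rw [Finset.sum_congr rfl fun η _ => h2 η]
  -- `∑ D η i D η' j rg η' η`
  apply mul_left_cancel₀ hp0
  rw [Finset.mul_sum]
  have h3 : ∀ η : b, (p : ℂ) ^ blockDefect p b * ∑ η' : b, (D η i : ℂ) * (D η' j : ℂ) *
      rg p (η' : H → ℂ) (η : H → ℂ) = ∑ i', ∑ j', (A i' j' : ℂ) *
        (∑ η' : b, (D η' i' : ℂ) * (D η' j : ℂ)) * ((D η j' : ℂ) * (D η i : ℂ)) := by
    intro η
    rw [Finset.mul_sum]
    have h4 : ∀ η' : b, (p : ℂ) ^ blockDefect p b * ((D η i : ℂ) * (D η' j : ℂ) *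
        rg p (η' : H → ℂ) (η : H → ℂ)) = ∑ i', ∑ j', (D η' i' : ℂ) * (A i' j' : ℂ) *
          (D η j' : ℂ) * (D η i : ℂ) * (D η' j : ℂ) := by
      intro η'
      have h5 : (p : ℂ) ^ blockDefect p b * ((D η i : ℂ) * (D η' j : ℂ) *
        rg p (η' : H → ℂ) (η : H → ℂ)) = (D η i : ℂ) * (D η' j : ℂ) * (P η' η : ℂ) := by
        rw [← hP.eq]; ring
      rw [h5, hF.eq, Matrix.mul_assoc, Matrix.mul_apply]
      simp only [Matrix.mul_apply, Matrix.transpose_apply]
      push_cast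
      rw [Finset.mul_sum]
      refine Finset.sum_congr rfl fun i' _ => ?_
      rw [Finset.mul_sum, Finset.mul_sum]
      exact Finset.sum_congr rfl fun j' _ => by ring
    rw [Finset.sum_congr rfl fun η' _ => h4 η', Finset.sum_comm]
    refine Finset.sum_congr rfl fun i' _ => ?_
    rw [Finset.sum_comm]
    refine Finset.sum_congr rfl fun j' _ => ?_
    rw [Finset.mul_sum, Finset.sum_mul]
    exact Finset.sum_congr rfl fun η' _ => by ring
  rw [Finset.sum_congr rfl fun η _ => h3 η, Finset.sum_comm]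
  have h4 : ∀ i' : Fin l, ∑ η : b, ∑ j', (A i' j' : ℂ) *
        (∑ η' : b, (D η' i' : ℂ) * (D η' j : ℂ)) * ((D η j' : ℂ) * (D η i : ℂ)) =
      (∑ η' : b, (D η' i' : ℂ) * (D η' j : ℂ)) *
        ((p : ℂ) ^ blockDefect p b * (if i' = i then 1 else 0)) := by
    intro i'
    rw [← factor_mul_apply hF i' i, Finset.sum_comm, Finset.mul_sum]
    refine Finset.sum_congr rfl fun j' _ => ?_
    rw [← Finset.mul_sum]
    ring
  rw [Finset.sum_congr rfl fun i' _ => h4 i']
  simp only [mul_ite, mul_one, mul_zero]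
  rw [Finset.sum_ite_eq' Finset.univ i, if_pos (Finset.mem_univ _), mul_comm]

/-- The contributions in terms of generalized decomposition numbers. -/
theorem contr_eq_gd (hM : IsPModular p M) (hE : Exp u H q n e) {k : ℕ}
    (hk : H = Subgroup.centralizer ({u ^ k} : Set G)) (hb : IsPBlock M b)
    (hP : IsGram p b P) (hF : Factor P ((p : ℤ) ^ blockDefect p b) D E A)
    (χ ψ : IrrCharacter G) :
    (p : ℂ) ^ blockDefect p b * contr p (u ^ k) b (χ : G → ℂ) (ψ : G → ℂ) =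
      ∑ i, ∑ j, gd n e (fun ξ => D ξ i) χ k * (A i j : ℂ) *
        conj (gd n e (fun ξ => D ξ j) ψ k) := by
  rw [contr_eq_sum hM hE hb χ ψ hk, Finset.mul_sum]
  have hq : ∀ η : IrrCharacter H, conj (e η ^ k) = conj (e η) ^ k := fun η => map_pow _ _ _
  have h1 : ∀ ξ : b, (p : ℂ) ^ blockDefect p b * ∑ η : b, (n χ ξ : ℂ) * (n ψ η : ℂ) *
      (e ξ * conj (e η)) ^ k * rg p (ξ : H → ℂ) (η : H → ℂ) =
      ∑ i, ∑ j, (n χ ξ : ℂ) * (D ξ i : ℂ) * e ξ ^ k * (A i j : ℂ) *
        conj (gd n e (fun ξ => D ξ j) ψ k) := by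
    intro ξ
    rw [Finset.mul_sum]
    have h2 : ∀ η : b, (p : ℂ) ^ blockDefect p b * ((n χ ξ : ℂ) * (n ψ η : ℂ) *
      (e ξ * conj (e η)) ^ k * rg p (ξ : H → ℂ) (η : H → ℂ)) =
      ∑ i, ∑ j, (n χ ξ : ℂ) * (D ξ i : ℂ) * e ξ ^ k * (A i j : ℂ) *
        ((n ψ η : ℂ) * (D η j : ℂ) * conj (e η) ^ k) := by
      intro η
      have h3 : (p : ℂ) ^ blockDefect p b * ((n χ ξ : ℂ) * (n ψ η : ℂ) *
        (e ξ * conj (e η)) ^ k * rg p (ξ : H → ℂ) (η : H → ℂ)) =
        (n χ ξ : ℂ) * (n ψ η : ℂ) * (e ξ ^ k * conj (e η) ^ k) * (P ξ η : ℂ) := by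
        rw [← hP.eq, mul_pow]; ring
      rw [h3, hF.eq, Matrix.mul_assoc, Matrix.mul_apply]
      simp only [Matrix.mul_apply, Matrix.transpose_apply]
      push_cast
      rw [Finset.mul_sum]
      refine Finset.sum_congr rfl fun i _ => ?_
      rw [Finset.mul_sum, Finset.mul_sum]
      exact Finset.sum_congr rfl fun j _ => by ring
    rw [Finset.sum_congr rfl fun η _ => h2 η, Finset.sum_comm]
    refine Finset.sum_congr rfl fun i _ => ?_
    rw [Finset.sum_comm]
    refine Finset.sum_congr rfl fun j _ => ?_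
    rw [← Finset.mul_sum, gd_def, map_sum]
    congr 1
    refine Finset.sum_congr rfl fun η _ => ?_
    rw [map_mul, map_mul, Complex.conj_natCast, map_intCast (starRingEnd ℂ), hq]
  rw [Finset.sum_congr rfl fun ξ _ => h1 ξ, Finset.sum_comm]
  refine Finset.sum_congr rfl fun i _ => ?_
  rw [Finset.sum_comm]
  refine Finset.sum_congr rfl fun j _ => ?_
  rw [gd_def (fun ξ => D ξ i) χ, Finset.sum_mul, Finset.sum_mul]

end gd

end Cfsg.Agent.H616
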