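import Mathlib
import Cfsg.Agent.H616.GenDec

/-!
# Positive forms on the lattice of `p`-regular restrictions of a block

`Rel p b c`: the integral combination `∑ c ψ * ψ` of members of `b` vanishes at the `p`-regular
elements.  `IsForm p b n T`: `T` is a family of real vectors indexed by `b` satisfying the same
integral relations, such that integral combinations with nonzero restriction have norm at least
one, and the norms of the `T ψ` add up to at most `n`.  `FormBd p b n`: there is such a family.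

* `rel_iff_of_le`: a criterion to determine the relations;
* `formBd_of_rows`: a form from integral coordinates `x` of the restrictions.
-/

set_option autoImplicit false
set_option linter.unusedSectionVars false

open Cfsg Matrix
open scoped ComplexConjugate

namespace Cfsg.Agent.H616.Form

open Cfsg.Agent.Blocks.Blau Cfsg.Agent.Blocks.Local Cfsg.Agent.Characters
open Cfsg.Agent.H613.RegGram Cfsg.Agent.H613.Contrib Cfsg.Agent.H613.ContribVal
open Cfsg.Agent.H616

universe u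

/-- The integral relations between the restrictions to the `p`-regular elements. -/
def Rel {H : Type u} [Group H] (p : ℕ) (b : Set (IrrCharacter H)) [Fintype b] (c : b → ℤ) : Prop :=
  ∀ g : H, ¬ p ∣ orderOf g → ∑ ψ : b, (c ψ : ℂ) * ((ψ : IrrCharacter H) : H → ℂ) g = 0

/-- A positive form on the lattice of restrictions to the `p`-regular elements. -/
structure IsForm {H : Type u} [Group H] (p : ℕ) (b : Set (IrrCharacter H)) [Fintype b] (n : ℕ)
    {κ : Type*} [Fintype κ] (T : b → κ → ℝ) : Prop where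
  zero : ∀ c : b → ℤ, Rel p b c → ∀ i, ∑ ψ : b, (c ψ : ℝ) * T ψ i = 0
  one_le : ∀ c : b → ℤ, ¬ Rel p b c → 1 ≤ ∑ i, (∑ ψ : b, (c ψ : ℝ) * T ψ i) ^ 2
  sum_le : ∑ ψ : b, ∑ i, T ψ i ^ 2 ≤ n

/-- There is a positive form with trace at most `n`. -/
def FormBd {H : Type u} [Group H] (p : ℕ) (b : Set (IrrCharacter H)) (n : ℕ) : Prop :=
  ∃ (_ : Fintype b) (N : ℕ) (T : b → Fin N → ℝ), IsForm p b n T

variable {H : Type u} [Group H] {p : ℕ} {b : Set (IrrCharacter H)} {n : ℕ}

theorem FormBd.mono {m : ℕ} (h : FormBd p b n) (hnm : n ≤ m) : FormBd p b m := by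
  obtain ⟨i, N, T, h1, h2, h3⟩ := h
  exact ⟨i, N, T, h1, h2, h3.trans (by exact_mod_cast hnm)⟩

theorem IsForm.formBd [Fintype b] {κ : Type*} [Fintype κ] {T : b → κ → ℝ}
    (h : IsForm p b n T) : FormBd p b n := by
  classical
  let e := Fintype.equivFin κ
  refine ⟨inferInstance, Fintype.card κ, fun ψ i => T ψ (e.symm i), ⟨?_, ?_, ?_⟩⟩
  · intro c hc i
    exact h.zero c hc _
  · intro c hc
    rw [Equiv.sum_comp e.symm (fun i => (∑ ψ : b, (c ψ : ℝ) * T ψ i) ^ 2)]
    exact h.one_le c hc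
  · refine le_of_eq_of_le ?_ h.sum_le
    refine Finset.sum_congr rfl fun ψ _ => ?_
    exact Equiv.sum_comp e.symm (fun i => T ψ i ^ 2)

/-- A form for one instance. -/
theorem FormBd.exists [i : Fintype b] (h : FormBd p b n) :
    ∃ (N : ℕ) (T : b → Fin N → ℝ), IsForm p b n T := by
  obtain ⟨j, N, T, h⟩ := h
  have : i = j := Subsingleton.elim _ _
  subst this
  exact ⟨N, T, h⟩

variable [Fintype b]

theorem rel_zero : Rel p b (0 : b → ℤ) := by
  intro g _
  simp

theorem Rel.add {c d : b → ℤ} (hc : Rel p b c) (hd : Rel p b d) : Rel p b (c + d) := by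
  intro g hg
  have h1 := hc g hg
  have h2 := hd g hg
  have h3 : ∑ ψ : b, ((c + d) ψ : ℂ) * ((ψ : IrrCharacter H) : H → ℂ) g =
      ∑ ψ : b, (c ψ : ℂ) * ((ψ : IrrCharacter H) : H → ℂ) g +
        ∑ ψ : b, (d ψ : ℂ) * ((ψ : IrrCharacter H) : H → ℂ) g := by
    rw [← Finset.sum_add_distrib]
    refine Finset.sum_congr rfl fun ψ _ => ?_
    rw [Pi.add_apply]
    push_cast
    ring
  rw [h3, h1, h2, add_zero]

theorem Rel.smul {c : b → ℤ} (hc : Rel p b c) (m : ℤ) : Rel p b (fun ψ => m * c ψ) := by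
  intro g hg
  have h1 := hc g hg
  rw [← mul_zero (m : ℂ), ← h1, Finset.mul_sum]
  refine Finset.sum_congr rfl fun ψ _ => ?_
  push_cast
  ring

/-- A nonzero multiple of `c` is a relation only if `c` is. -/
theorem Rel.of_smul {c : b → ℤ} {m : ℤ} (hm : m ≠ 0) (hc : Rel p b (fun ψ => m * c ψ)) :
    Rel p b c := by
  intro g hg
  have h1 := hc g hg
  have h2 : (m : ℂ) * ∑ ψ : b, (c ψ : ℂ) * ((ψ : IrrCharacter H) : H → ℂ) g = 0 := by
    rw [← h1, Finset.mul_sum]
    refine Finset.sum_congr rfl fun ψ _ => ?_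
    push_cast
    ring
  exact (mul_eq_zero.1 h2).resolve_left (by exact_mod_cast hm)

theorem Rel.sum {κ : Type*} (s : Finset κ) (m : κ → ℤ) (d : κ → b → ℤ)
    (hd : ∀ i ∈ s, Rel p b (d i)) : Rel p b (fun ψ => ∑ i ∈ s, m i * d i ψ) := by
  intro g hg
  push_cast
  simp only [Finset.sum_mul]
  rw [Finset.sum_comm]
  refine Finset.sum_eq_zero fun i hi => ?_
  have h1 := hd i hi g hg
  rw [← mul_zero (m i : ℂ), ← h1, Finset.mul_sum]
  refine Finset.sum_congr rfl fun ψ _ => ?_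
  ring

variable [Finite H] [Fact p.Prime] {M : Ideal AlgInt}

section factor

variable [DecidableEq b] {P : Matrix b b ℤ} {N : ℤ} {l : ℕ}
  {D : Matrix b (Fin l) ℤ} {E : Matrix (Fin l) b ℤ} {A : Matrix (Fin l) (Fin l) ℤ}

/-- The relations in terms of a decomposition matrix. -/
theorem rel_iff [Fintype H] (hM : IsPModular p M) (hb : IsPBlock M b) (hP : IsGram p b P)
    (hF : Factor P ((p : ℤ) ^ blockDefect p b) D E A) (c : b → ℤ) :
    Rel p b c ↔ ∀ j, ∑ ψ, c ψ * D ψ j = 0 := by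
  have hp0 : (p : ℂ) ^ blockDefect p b ≠ 0 := pow_ne_zero _ (by exact_mod_cast hM.1.ne_zero)
  -- `p ^ d * ∑ c ψ rg ψ ζ = ∑ c ψ P ψ ζ`
  have key : ∀ ζ : b, (p : ℂ) ^ blockDefect p b *
      ∑ ψ : b, (c ψ : ℂ) * rg p (ψ : H → ℂ) (ζ : H → ℂ) = ((∑ ψ, c ψ * P ψ ζ : ℤ) : ℂ) := by
    intro ζ
    push_cast
    rw [Finset.mul_sum]
    refine Finset.sum_congr rfl fun ψ _ => ?_
    rw [← hP.eq]
    ring
  have hPD : ∀ ζ : b, ∑ ψ, c ψ * P ψ ζ = ∑ j, (∑ ψ, c ψ * D ψ j) * ∑ i, A j i * D ζ i := by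
    intro ζ
    have h1 : ∀ ψ, P ψ ζ = ∑ j, D ψ j * ∑ i, A j i * D ζ i := by
      intro ψ
      rw [hF.eq, Matrix.mul_assoc, Matrix.mul_apply]
      refine Finset.sum_congr rfl fun j _ => ?_
      rw [Matrix.mul_apply]
      rfl
    simp only [h1, Finset.mul_sum, Finset.sum_mul]
    rw [Finset.sum_comm]
    refine Finset.sum_congr rfl fun j _ => ?_
    rw [Finset.sum_comm]
    exact Finset.sum_congr rfl fun i _ => Finset.sum_congr rfl fun ψ _ => by ring
  constructor
  · intro h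
    -- `∑ c ψ rg ψ ζ = 0`
    have h1 : ∀ ζ : b, ∑ ψ, c ψ * P ψ ζ = 0 := by
      intro ζ
      have h2 : ∑ ψ : b, (c ψ : ℂ) * rg p (ψ : H → ℂ) (ζ : H → ℂ) = 0 := by
        simp only [rg_def, pair_eq_sum_filter]
        classical
        have h3 : ∀ ψ : b, (c ψ : ℂ) * ((Nat.card H : ℂ)⁻¹ *
            ∑ x with ¬ p ∣ orderOf x, (ψ : H → ℂ) x * conj ((ζ : H → ℂ) x)) =
            ∑ x with ¬ p ∣ orderOf x, (Nat.card H : ℂ)⁻¹ *
              ((c ψ : ℂ) * (ψ : H → ℂ) x) * conj ((ζ : H → ℂ) x) := by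
          intro ψ
          rw [Finset.mul_sum, Finset.mul_sum]
          exact Finset.sum_congr rfl fun x _ => by ring
        rw [Finset.sum_congr rfl fun ψ _ => h3 ψ, Finset.sum_comm]
        refine Finset.sum_eq_zero fun x hx => ?_
        rw [← Finset.sum_mul, ← Finset.mul_sum, h x (Finset.mem_filter.1 hx).2]
        ring
      have h3 := key ζ
      rw [h2, mul_zero] at h3
      exact_mod_cast h3.symm
    -- multiply by `E`
    have h4 : ∀ i, ∑ j, (∑ ψ, c ψ * D ψ j) * A j i = 0 := by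
      intro i
      have h5 : ∑ ζ, (∑ ψ, c ψ * P ψ ζ) * E i ζ = 0 :=
        Finset.sum_eq_zero fun ζ _ => by rw [h1 ζ, zero_mul]
      rw [← h5]
      simp only [hPD]
      have h6 : ∀ ζ, (∑ j, (∑ ψ, c ψ * D ψ j) * ∑ i', A j i' * D ζ i') * E i ζ =
          ∑ j, ∑ i', (∑ ψ, c ψ * D ψ j) * A j i' * (E i ζ * D ζ i') := by
        intro ζ
        rw [Finset.sum_mul]
        refine Finset.sum_congr rfl fun j _ => ?_
        rw [Finset.mul_sum, Finset.sum_mul]
        exact Finset.sum_congr rfl fun i' _ => by ring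
      rw [Finset.sum_congr rfl fun ζ _ => h6 ζ, Finset.sum_comm]
      refine Finset.sum_congr rfl fun j _ => ?_
      rw [Finset.sum_comm]
      have h7 : ∀ i', ∑ ζ, (∑ ψ, c ψ * D ψ j) * A j i' * (E i ζ * D ζ i') =
          (∑ ψ, c ψ * D ψ j) * A j i' * (if i = i' then 1 else 0) := by
        intro i'
        rw [← Finset.mul_sum]
        congr 1
        have := congrFun (congrFun hF.left_inv i) i'
        rw [Matrix.mul_apply, Matrix.one_apply] at this
        exact this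
      rw [Finset.sum_congr rfl fun i' _ => h7 i']
      simp
    intro j
    -- multiply by `Dᵀ D`
    have h8 : ∑ i, (∑ j', (∑ ψ, c ψ * D ψ j') * A j' i) * (Dᵀ * D) i j = 0 :=
      Finset.sum_eq_zero fun i _ => by rw [h4 i, zero_mul]
    have h9 : ∑ i, (∑ j', (∑ ψ, c ψ * D ψ j') * A j' i) * (Dᵀ * D) i j =
        (∑ ψ, c ψ * D ψ j) * (p : ℤ) ^ blockDefect p b := by
      simp only [Finset.sum_mul]
      rw [Finset.sum_comm]
      have h10 : ∀ j', ∑ i, (∑ ψ, c ψ * D ψ j') * A j' i * (Dᵀ * D) i j =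
          (∑ ψ, c ψ * D ψ j') * (if j' = j then (p : ℤ) ^ blockDefect p b else 0) := by
        intro j'
        have := congrFun (congrFun hF.mul j') j
        rw [Matrix.mul_apply, Matrix.smul_apply, Matrix.one_apply] at this
        simp only [smul_eq_mul, mul_ite, mul_one, mul_zero] at this
        rw [← this, Finset.mul_sum]
        exact Finset.sum_congr rfl fun i _ => by ring
      have h11 := Finset.sum_congr rfl fun j' (_ : j' ∈ Finset.univ) => h10 j'
      simp only [Finset.sum_mul] at h11 ⊢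
      rw [h11]
      simp [Finset.sum_ite_eq', mul_ite]
    rw [h9] at h8
    exact (mul_eq_zero.1 h8).resolve_right (pow_ne_zero _ (by exact_mod_cast hM.1.ne_zero))
  · intro h g hg
    -- `ψ° = ∑ rg ψ ζ • ζ°`
    have h1 : ∀ ψ : b, ((ψ : IrrCharacter H) : H → ℂ) g =
        ∑ ζ : b, rg p (ψ : H → ℂ) (ζ : H → ℂ) * ((ζ : IrrCharacter H) : H → ℂ) g := by
      intro ψ
      have h2 := congrFun (regPart_eq_sum_block hM hb ψ.2) g
      rw [regPart_of_not_dvd hg] at h2
      rw [h2, Finset.sum_apply]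
      rfl
    have h2 : ∀ ζ : b, ∑ ψ : b, (c ψ : ℂ) * rg p (ψ : H → ℂ) (ζ : H → ℂ) = 0 := by
      intro ζ
      apply mul_left_cancel₀ hp0
      rw [key ζ, hPD ζ, mul_zero]
      rw [Finset.sum_eq_zero fun j _ => by rw [h j, zero_mul]]
      simp
    calc ∑ ψ : b, (c ψ : ℂ) * ((ψ : IrrCharacter H) : H → ℂ) g
        = ∑ ψ : b, ∑ ζ : b, (c ψ : ℂ) * rg p (ψ : H → ℂ) (ζ : H → ℂ) *
            ((ζ : IrrCharacter H) : H → ℂ) g := by
          refine Finset.sum_congr rfl fun ψ _ => ?_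
          rw [h1 ψ, Finset.mul_sum]
          exact Finset.sum_congr rfl fun ζ _ => by ring
      _ = 0 := by
          rw [Finset.sum_comm]
          refine Finset.sum_eq_zero fun ζ _ => ?_
          rw [← Finset.sum_mul, h2 ζ, zero_mul]

end factor

/-- Restrictions have integral coordinates. -/
theorem exists_rows (hM : IsPModular p M) (hb : IsPBlock M b) :
    ∃ D : b → Fin (blockRank p b) → ℤ, (∀ c : b → ℤ, Rel p b c ↔ ∀ j, ∑ ψ, c ψ * D ψ j = 0) ∧
      ∃ E : Fin (blockRank p b) → b → ℤ, ∀ i j, ∑ ψ, E i ψ * D ψ j = if i = j then 1 else 0 := by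
  classical
  have := Fintype.ofFinite H
  obtain ⟨P, D, E, A, hP, hF⟩ := exists_factor_block hM hb
  refine ⟨D, fun c => ?_, E, fun i j => ?_⟩
  · exact @rel_iff H _ p b _ _ _ M (Classical.decEq b) P _ D E A _ hM hb hP hF c
  · have h1 := congrFun (congrFun (@Factor.left_inv b _ (Classical.decEq b) P _ _ D E A hF) i) j
    rw [Matrix.mul_apply, Matrix.one_apply] at h1
    exact h1

/-- A criterion to determine the relations: the kernel of integral coordinates of length at most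
the rank is the group of relations if it consists of relations. -/
theorem rel_iff_of_le (hM : IsPModular p M) (hb : IsPBlock M b) {κ : Type*} [Fintype κ]
    (x : b → κ → ℤ) (hr : Fintype.card κ ≤ blockRank p b)
    (h : ∀ c : b → ℤ, (∀ j, ∑ ψ, c ψ * x ψ j = 0) → Rel p b c) (c : b → ℤ) :
    Rel p b c ↔ ∀ j, ∑ ψ, c ψ * x ψ j = 0 := by
  classical
  refine ⟨fun hc => ?_, h c⟩
  obtain ⟨D, hD, E, hE⟩ := exists_rows hM hb
  -- rational maps
  let X : (b → ℚ) →ₗ[ℚ] (κ → ℚ) := Matrix.vecMulLinear (fun ψ j => (x ψ j : ℚ))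
  let Y : (b → ℚ) →ₗ[ℚ] (Fin (blockRank p b) → ℚ) := Matrix.vecMulLinear (fun ψ j => (D ψ j : ℚ))
  have hX : ∀ (v : b → ℚ) j, X v j = ∑ ψ, v ψ * x ψ j := fun v j => rfl
  have hY : ∀ (v : b → ℚ) j, Y v j = ∑ ψ, v ψ * D ψ j := fun v j => rfl
  -- clearing denominators
  have hclear : ∀ v : b → ℚ, ∃ (m : ℤ) (w : b → ℤ), m ≠ 0 ∧ ∀ ψ, (m : ℚ) * v ψ = w ψ := by
    intro v
    refine ⟨∏ ψ, ((v ψ).den : ℤ), fun ψ => (∏ ζ ∈ Finset.univ.erase ψ, ((v ζ).den : ℤ)) * (v ψ).num,
      Finset.prod_ne_zero_iff.2 fun ψ _ => by exact_mod_cast (v ψ).den_ne_zero, fun ψ => ?_⟩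
    rw [← Finset.mul_prod_erase _ _ (Finset.mem_univ ψ)]
    push_cast
    have h1 : ((v ψ).den : ℚ) * v ψ = (v ψ).num := by
      rw [mul_comm]; exact Rat.mul_den_eq_num (v ψ)
    rw [mul_right_comm, h1, mul_comm]
  have hker : LinearMap.ker X ≤ LinearMap.ker Y := by
    intro v hv
    rw [LinearMap.mem_ker] at hv ⊢
    obtain ⟨m, w, hm, hw⟩ := hclear v
    have h1 : Rel p b w := by
      refine h w fun j => ?_
      have h2 := congrFun hv j
      rw [hX] at h2
      have h3 : ((∑ ψ, w ψ * x ψ j : ℤ) : ℚ) = m * ∑ ψ, v ψ * x ψ j := by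
        push_cast
        rw [Finset.mul_sum]
        exact Finset.sum_congr rfl fun ψ _ => by rw [← hw]; ring
      rw [h2, Pi.zero_apply, mul_zero] at h3
      exact_mod_cast h3
    rw [hD] at h1
    ext j
    rw [hY]
    have hm' : (m : ℚ) ≠ 0 := by exact_mod_cast hm
    apply mul_left_cancel₀ hm'
    have h3 : ((∑ ψ, w ψ * D ψ j : ℤ) : ℚ) = m * ∑ ψ, v ψ * D ψ j := by
      push_cast
      rw [Finset.mul_sum]
      exact Finset.sum_congr rfl fun ψ _ => by rw [← hw]; ring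
    rw [← h3, h1 j]
    simp
  have hYsurj : Function.Surjective Y := by
    intro t
    refine ⟨fun ψ => ∑ i, t i * E i ψ, ?_⟩
    ext j
    rw [hY]
    simp only [Finset.sum_mul]
    rw [Finset.sum_comm]
    have h1 : ∀ i, ∑ ψ, t i * (E i ψ : ℚ) * (D ψ j : ℚ) = t i * (if i = j then 1 else 0) := by
      intro i
      have h2 : ((∑ ψ, E i ψ * D ψ j : ℤ) : ℚ) = if i = j then 1 else 0 := by
        rw [hE]; split_ifs <;> simp
      rw [← h2]
      push_cast
      rw [Finset.mul_sum]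
      exact Finset.sum_congr rfl fun ψ _ => by ring
    rw [Finset.sum_congr rfl fun i _ => h1 i]
    simp
  have h1 := X.finrank_range_add_finrank_ker
  have h2 := Y.finrank_range_add_finrank_ker
  have h3 : Module.finrank ℚ (LinearMap.range Y) = blockRank p b := by
    rw [LinearMap.range_eq_top.2 hYsurj, finrank_top, Module.finrank_fin_fun]
  have h4 : Module.finrank ℚ (LinearMap.range X) ≤ Fintype.card κ := by
    refine (Submodule.finrank_le _).trans ?_
    rw [Module.finrank_fintype_fun_eq_card]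
  have h5 : LinearMap.ker X = LinearMap.ker Y :=
    Submodule.eq_of_le_of_finrank_le hker (by omega)
  intro j
  have h6 : (fun ψ => (c ψ : ℚ)) ∈ LinearMap.ker Y := by
    rw [LinearMap.mem_ker]
    ext j
    rw [hY]
    have h7 := (hD c).1 hc j
    have h8 : ((∑ ψ, c ψ * D ψ j : ℤ) : ℚ) = 0 := by rw [h7]; simp
    push_cast at h8
    exact h8
  rw [← h5, LinearMap.mem_ker] at h6
  have h9 := congrFun h6 j
  rw [hX] at h9
  have h10 : ((∑ ψ, c ψ * x ψ j : ℤ) : ℚ) = 0 := by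
    push_cast
    exact h9
  exact_mod_cast h10

/-- A form from integral coordinates. -/
theorem formBd_of_rows {κ κ' : Type*} [Fintype κ] [Fintype κ'] (x : b → κ → ℤ)
    (hx : ∀ c : b → ℤ, Rel p b c ↔ ∀ j, ∑ ψ, c ψ * x ψ j = 0)
    (L : κ' → κ → ℝ) (hL : ∀ v : κ → ℤ, v ≠ 0 → 1 ≤ ∑ i, (∑ j, L i j * v j) ^ 2)
    (hs : ∑ ψ : b, ∑ i, (∑ j, L i j * x ψ j) ^ 2 ≤ n) : FormBd p b n := by
  have key : ∀ (c : b → ℤ) (i : κ'), ∑ ψ : b, (c ψ : ℝ) * ∑ j, L i j * x ψ j =
      ∑ j, L i j * ((∑ ψ, c ψ * x ψ j : ℤ) : ℝ) := by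
    intro c i
    simp only [Finset.mul_sum]
    rw [Finset.sum_comm]
    refine Finset.sum_congr rfl fun j _ => ?_
    push_cast
    rw [Finset.mul_sum]
    exact Finset.sum_congr rfl fun ψ _ => by ring
  refine IsForm.formBd (T := fun ψ i => ∑ j, L i j * x ψ j) ⟨?_, ?_, hs⟩
  · intro c hc i
    rw [key]
    refine Finset.sum_eq_zero fun j _ => ?_
    rw [(hx c).1 hc j]
    simp
  · intro c hc
    simp only [key]
    refine hL _ fun h0 => hc ((hx c).2 fun j => congrFun h0 j)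

end Cfsg.Agent.H616.Form
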