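import Mathlib
import Cfsg.Agent.H616.IntGram

/-!
# Reduced binary Cartan matrices

For a factorisation `P = D * A * Dᵀ` with two columns, `A * (Dᵀ * D) = p ^ d`, `A` nonzero modulo `p`
and `p ∣ det A`: after a change of basis the Cartan matrix is reduced, and either
`a + c - |b| ≤ p ^ d` or it is diagonal with entries `p ^ d`, `p ^ e`, `e < d`.
-/

set_option autoImplicit false

open Matrix

namespace Cfsg.Agent.H616

section

variable {ι : Type*} [Fintype ι] [DecidableEq ι] {P : Matrix ι ι ℤ} {N : ℤ}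

/-- A factorisation with reduced Cartan matrix. -/
theorem exists_reduced {D : Matrix ι (Fin 2) ℤ} {E : Matrix (Fin 2) ι ℤ}
    {A : Matrix (Fin 2) (Fin 2) ℤ} (h : Factor P N D E A) :
    ∃ (D' : Matrix ι (Fin 2) ℤ) (E' : Matrix (Fin 2) ι ℤ) (A' : Matrix (Fin 2) (Fin 2) ℤ),
      Factor P N D' E' A' ∧
      2 * |∑ η, D' η 0 * D' η 1| ≤ ∑ η, D' η 0 ^ 2 ∧
      2 * |∑ η, D' η 0 * D' η 1| ≤ ∑ η, D' η 1 ^ 2 := by
  classical
  let S : Set ℕ := {t | ∃ (D' : Matrix ι (Fin 2) ℤ) (E' : Matrix (Fin 2) ι ℤ)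
    (A' : Matrix (Fin 2) (Fin 2) ℤ), Factor P N D' E' A' ∧
      (t : ℤ) = ∑ η, D' η 0 ^ 2 + ∑ η, D' η 1 ^ 2}
  have hS : ∃ t, t ∈ S := by
    refine ⟨(∑ η, D η 0 ^ 2 + ∑ η, D η 1 ^ 2).toNat, D, E, A, h, ?_⟩
    rw [Int.toNat_of_nonneg]
    positivity
  obtain ⟨D', E', A', h', ht⟩ := Nat.find_spec hS
  have hmin : ∀ (D₁ : Matrix ι (Fin 2) ℤ) (E₁ : Matrix (Fin 2) ι ℤ)
      (A₁ : Matrix (Fin 2) (Fin 2) ℤ), Factor P N D₁ E₁ A₁ →
      ∑ η, D' η 0 ^ 2 + ∑ η, D' η 1 ^ 2 ≤ ∑ η, D₁ η 0 ^ 2 + ∑ η, D₁ η 1 ^ 2 := by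
    intro D₁ E₁ A₁ h₁
    rw [← ht]
    have h0 : (0 : ℤ) ≤ ∑ η, D₁ η 0 ^ 2 + ∑ η, D₁ η 1 ^ 2 := by positivity
    have h2 : Nat.find hS ≤ (∑ η, D₁ η 0 ^ 2 + ∑ η, D₁ η 1 ^ 2).toNat := by
      apply Nat.find_min'
      exact ⟨D₁, E₁, A₁, h₁, Int.toNat_of_nonneg h0⟩
    have h3 := Int.toNat_of_nonneg h0
    omega
  have key1 : ∀ s : ℤ, 0 ≤ s * (2 * ∑ η, D' η 0 * D' η 1) + s ^ 2 * ∑ η, D' η 0 ^ 2 := by
    intro s
    have h1 : (!![1, -s; 0, 1] : Matrix (Fin 2) (Fin 2) ℤ) * !![1, s; 0, 1] = 1 := by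
      ext i j
      fin_cases i <;> fin_cases j <;> simp [Matrix.mul_apply, Fin.sum_univ_two]
    have h2 := hmin _ _ _ (h'.change h1)
    have h3 : ∀ η, (D' * !![1, s; 0, 1]) η 0 = D' η 0 := by
      intro η; simp [Matrix.mul_apply, Fin.sum_univ_two]
    have h4 : ∀ η, (D' * !![1, s; 0, 1]) η 1 = D' η 0 * s + D' η 1 := by
      intro η; simp [Matrix.mul_apply, Fin.sum_univ_two]
    simp only [h3, h4] at h2
    have h5 : ∑ η, (D' η 0 * s + D' η 1) ^ 2 = s ^ 2 * ∑ η, D' η 0 ^ 2 +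
        s * (2 * ∑ η, D' η 0 * D' η 1) + ∑ η, D' η 1 ^ 2 := by
      rw [Finset.mul_sum, Finset.mul_sum, Finset.mul_sum, ← Finset.sum_add_distrib,
        ← Finset.sum_add_distrib]
      exact Finset.sum_congr rfl fun η _ => by ring
    rw [h5] at h2
    linarith
  have key2 : ∀ s : ℤ, 0 ≤ s * (2 * ∑ η, D' η 0 * D' η 1) + s ^ 2 * ∑ η, D' η 1 ^ 2 := by
    intro s
    have h1 : (!![1, 0; -s, 1] : Matrix (Fin 2) (Fin 2) ℤ) * !![1, 0; s, 1] = 1 := by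
      ext i j
      fin_cases i <;> fin_cases j <;> simp [Matrix.mul_apply, Fin.sum_univ_two]
    have h2 := hmin _ _ _ (h'.change h1)
    have h3 : ∀ η, (D' * !![1, 0; s, 1]) η 1 = D' η 1 := by
      intro η; simp [Matrix.mul_apply, Fin.sum_univ_two]
    have h4 : ∀ η, (D' * !![1, 0; s, 1]) η 0 = D' η 0 + D' η 1 * s := by
      intro η; simp [Matrix.mul_apply, Fin.sum_univ_two]
    simp only [h3, h4] at h2
    have h5 : ∑ η, (D' η 0 + D' η 1 * s) ^ 2 = s ^ 2 * ∑ η, D' η 1 ^ 2 +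
        s * (2 * ∑ η, D' η 0 * D' η 1) + ∑ η, D' η 0 ^ 2 := by
      rw [Finset.mul_sum, Finset.mul_sum, Finset.mul_sum, ← Finset.sum_add_distrib,
        ← Finset.sum_add_distrib]
      exact Finset.sum_congr rfl fun η _ => by ring
    rw [h5] at h2
    linarith
  refine ⟨D', E', A', h', ?_, ?_⟩
  · have h1 := key1 1
    have h2 := key1 (-1)
    rcases abs_cases (∑ η, D' η 0 * D' η 1) with ⟨h3, -⟩ | ⟨h3, -⟩ <;> rw [h3] <;> linarith
  · have h1 := key2 1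
    have h2 := key2 (-1)
    rcases abs_cases (∑ η, D' η 0 * D' η 1) with ⟨h3, -⟩ | ⟨h3, -⟩ <;> rw [h3] <;> linarith

/-- Exchange of the two columns. -/
theorem Factor.swap {D : Matrix ι (Fin 2) ℤ} {E : Matrix (Fin 2) ι ℤ}
    {A : Matrix (Fin 2) (Fin 2) ℤ} (h : Factor P N D E A) :
    ∃ (D' : Matrix ι (Fin 2) ℤ) (E' : Matrix (Fin 2) ι ℤ) (A' : Matrix (Fin 2) (Fin 2) ℤ),
      Factor P N D' E' A' ∧ (∀ η, D' η 0 = D η 1) ∧ (∀ η, D' η 1 = D η 0) ∧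
      A' 0 0 = A 1 1 ∧ A' 1 1 = A 0 0 ∧ A' 0 1 = A 0 1 ∧ A' 1 0 = A 1 0 := by
  have h1 : (!![0, 1; 1, 0] : Matrix (Fin 2) (Fin 2) ℤ) * !![0, 1; 1, 0] = 1 := by
    ext i j
    fin_cases i <;> fin_cases j <;> simp [Matrix.mul_apply, Fin.sum_univ_two]
  have hs : A 0 1 = A 1 0 := by
    have := congrFun (congrFun h.symm 1) 0
    rwa [transpose_apply] at this
  refine ⟨_, _, _, h.change h1, ?_, ?_, ?_, ?_, ?_, ?_⟩ <;>
    simp [Matrix.mul_apply, Fin.sum_univ_two, Matrix.transpose_apply, Matrix.vecMul, dotProduct, hs]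

end

section arith

variable {p : ℕ} [Fact p.Prime]

/-- Arithmetic of `A * C = p ^ d` with `C` reduced. -/
theorem reduced_cases {d : ℕ} {α β γ a b c : ℤ}
    (h1 : α * a + β * b = (p : ℤ) ^ d) (h2 : α * b + β * c = 0)
    (h3 : β * a + γ * b = 0) (h4 : β * b + γ * c = (p : ℤ) ^ d)
    (ha : 0 ≤ a) (hc : 0 ≤ c) (hab : 2 * |b| ≤ a) (hcb : 2 * |b| ≤ c)
    (hp : ¬ ((p : ℤ) ∣ α ∧ (p : ℤ) ∣ β ∧ (p : ℤ) ∣ γ)) (hdet : (p : ℤ) ∣ α * γ - β ^ 2) :
    a + c - |b| ≤ (p : ℤ) ^ d ∨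
      (b = 0 ∧ β = 0 ∧ ∃ e t : ℕ, e + t = d ∧ 1 ≤ t ∧
        ((a = (p : ℤ) ^ e ∧ c = (p : ℤ) ^ d ∧ α = (p : ℤ) ^ t ∧ γ = 1) ∨
          (c = (p : ℤ) ^ e ∧ a = (p : ℤ) ^ d ∧ γ = (p : ℤ) ^ t ∧ α = 1))) := by
  have hpr : p.Prime := Fact.out
  have hp0 : (p : ℤ) ≠ 0 := by exact_mod_cast hpr.ne_zero
  have hppos : (0 : ℤ) < p := by exact_mod_cast hpr.pos
  have hp1 : (1 : ℤ) < p := by exact_mod_cast hpr.one_lt
  have hN : (0 : ℤ) < (p : ℤ) ^ d := by positivity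
  have hcs : 0 ≤ a * c - b ^ 2 := by
    have h5 : b ^ 2 = |b| * |b| := by rw [← sq, sq_abs]
    have h6 : 0 ≤ |b| := abs_nonneg b
    nlinarith
  have hdd : (α * γ - β ^ 2) * (a * c - b ^ 2) = (p : ℤ) ^ (d + d) := by
    rw [pow_add]
    have : (p : ℤ) ^ d * (p : ℤ) ^ d = (α * a + β * b) * (β * b + γ * c) -
      (α * b + β * c) * (β * a + γ * b) := by rw [h1, h4, h2]; ring
    rw [this]; ring
  have hdA : 0 < α * γ - β ^ 2 := by
    by_contra hneg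
    push Not at hneg
    have h5 : (0 : ℤ) < (p : ℤ) ^ (d + d) := by positivity
    nlinarith
  -- powers of `p`
  obtain ⟨t, ht⟩ : ∃ t : ℕ, α * γ - β ^ 2 = (p : ℤ) ^ t := by
    have h5 : (α * γ - β ^ 2).natAbs ∣ p ^ (d + d) := by
      have h6 : α * γ - β ^ 2 ∣ (p : ℤ) ^ (d + d) := ⟨_, hdd.symm⟩
      have h7 := Int.natAbs_dvd_natAbs.2 h6
      rwa [Int.natAbs_pow, Int.natAbs_natCast] at h7
    obtain ⟨t, -, ht⟩ := (Nat.dvd_prime_pow hpr).1 h5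
    refine ⟨t, ?_⟩
    have h6 : ((α * γ - β ^ 2).natAbs : ℤ) = α * γ - β ^ 2 := Int.natAbs_of_nonneg hdA.le
    rw [← h6, ht]
    push_cast
    rfl
  have ht1 : 1 ≤ t := by
    rcases Nat.eq_zero_or_pos t with h0 | h0
    · exfalso
      rw [h0, pow_zero] at ht
      rw [ht] at hdet
      have := Int.le_of_dvd one_pos hdet
      omega
    · exact h0
  -- `p ^ t * C = p ^ d * adj A`
  have e1 : (p : ℤ) ^ t * a = (p : ℤ) ^ d * γ := by
    rw [← ht]; linear_combination γ * h1 - β * h3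
  have e2 : (p : ℤ) ^ t * c = (p : ℤ) ^ d * α := by
    rw [← ht]; linear_combination α * h4 - β * h2
  have e3 : (p : ℤ) ^ t * b = - ((p : ℤ) ^ d * β) := by
    rw [← ht]; linear_combination γ * h2 - β * h4
  have htd : t ≤ d := by
    by_contra hlt
    push Not at hlt
    obtain ⟨s, rfl⟩ := Nat.exists_eq_add_of_lt hlt
    apply hp
    have hpd : (p : ℤ) ^ d ≠ 0 := hN.ne'
    refine ⟨?_, ?_, ?_⟩
    · refine ⟨(p : ℤ) ^ s * c, ?_⟩
      apply mul_left_cancel₀ hpd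
      rw [← e2]; ring
    · refine ⟨-((p : ℤ) ^ s * b), ?_⟩
      apply mul_left_cancel₀ hpd
      have : (p : ℤ) ^ d * β = - ((p : ℤ) ^ (d + s + 1) * b) := by rw [e3]; ring
      rw [this]; ring
    · refine ⟨(p : ℤ) ^ s * a, ?_⟩
      apply mul_left_cancel₀ hpd
      rw [← e1]; ring
  obtain ⟨e, rfl⟩ := Nat.exists_eq_add_of_le' htd
  have hpt : (p : ℤ) ^ t ≠ 0 := pow_ne_zero _ hp0
  have hpe : (0 : ℤ) < (p : ℤ) ^ e := by positivity
  have hptp : (0 : ℤ) < (p : ℤ) ^ t := by positivity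
  have f1 : a = (p : ℤ) ^ e * γ := by
    apply mul_left_cancel₀ hpt; rw [e1]; ring
  have f2 : c = (p : ℤ) ^ e * α := by
    apply mul_left_cancel₀ hpt; rw [e2]; ring
  have f3 : b = - ((p : ℤ) ^ e * β) := by
    apply mul_left_cancel₀ hpt; rw [e3]; ring
  have f3' : |b| = (p : ℤ) ^ e * |β| := by
    rw [f3, abs_neg, abs_mul, abs_of_pos hpe]
  have g1 : 2 * |β| ≤ γ := by
    rw [f3', f1] at hab
    have : (p : ℤ) ^ e * (2 * |β|) ≤ (p : ℤ) ^ e * γ := by linarith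
    exact le_of_mul_le_mul_left this hpe
  have g2 : 2 * |β| ≤ α := by
    rw [f3', f2] at hcb
    have : (p : ℤ) ^ e * (2 * |β|) ≤ (p : ℤ) ^ e * α := by linarith
    exact le_of_mul_le_mul_left this hpe
  have hsq : β ^ 2 = |β| ^ 2 := (sq_abs β).symm
  have hb0 : 0 ≤ |β| := abs_nonneg β
  have hα : 0 < α := by
    rcases lt_or_ge 0 α with h | h
    · exact h
    · exfalso
      have : |β| = 0 := by omega
      rw [hsq, this] at hdA
      nlinarith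
  have hγ : 0 < γ := by
    rcases lt_or_ge 0 γ with h | h
    · exact h
    · exfalso
      have : |β| = 0 := by omega
      rw [hsq, this] at hdA
      nlinarith
  rcases eq_or_ne β 0 with hβ | hβ
  · rw [hβ] at ht
    have ht' : α * γ = (p : ℤ) ^ t := by rw [← ht]; ring
    by_cases hα1 : α = 1
    · right
      refine ⟨by rw [f3, hβ]; ring, hβ, e, t, rfl, ht1, Or.inr ⟨by rw [f2, hα1, mul_one], ?_, ?_, hα1⟩⟩
      · rw [hα1, one_mul] at ht'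
        rw [f1, ht', ← pow_add]
      · rw [← ht', hα1, one_mul]
    · by_cases hγ1 : γ = 1
      · right
        refine ⟨by rw [f3, hβ]; ring, hβ, e, t, rfl, ht1, Or.inl ⟨by rw [f1, hγ1, mul_one], ?_, ?_, hγ1⟩⟩
        · rw [hγ1, mul_one] at ht'
          rw [f2, ht', ← pow_add]
        · rw [← ht', hγ1, mul_one]
      · left
        have hα2 : 2 ≤ α := by omega
        have hγ2 : 2 ≤ γ := by omega
        have h5 : α + γ ≤ (p : ℤ) ^ t := by rw [← ht']; nlinarith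
        have h6 : |b| = 0 := by rw [f3', hβ]; simp
        have h7 := mul_le_mul_of_nonneg_left h5 hpe.le
        rw [h6, f1, f2, pow_add]
        linarith
  · left
    have hb1 : 1 ≤ |β| := Int.one_le_abs hβ
    have h5 : α + γ - |β| ≤ (p : ℤ) ^ t := by
      rw [← ht, hsq]
      have k1 := mul_nonneg (sub_nonneg.2 g2) (sub_nonneg.2 g1)
      have k2 := mul_nonneg hb0 (sub_nonneg.2 hb1)
      have k0 : (0 : ℤ) ≤ 2 * |β| - 1 := by linarith
      have k3 := mul_nonneg k0 (sub_nonneg.2 g1)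
      have k4 := mul_nonneg k0 (sub_nonneg.2 g2)
      have k5 : α * γ - |β| ^ 2 - (α + γ - |β|) = (α - 2 * |β|) * (γ - 2 * |β|) +
        3 * (|β| * (|β| - 1)) + (2 * |β| - 1) * (γ - 2 * |β|) + (2 * |β| - 1) * (α - 2 * |β|) := by
        ring
      linarith
    rw [f3', f1, f2, pow_add]
    have h6 := mul_le_mul_of_nonneg_left h5 hpe.le
    linarith

end arith

end Cfsg.Agent.H616
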