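import Mathlib
import Cfsg.Agent.H616.GenDec
import Cfsg.Agent.H616.Binary
import Cfsg.Agent.H658.MajorVal

/-!
# Major subsections of rank at most two

`card_le_of_rank_le_two`: if `(u, b)` is a major subsection of the block `B` of defect `d` and
`l(b) ≤ 2` then `k(B) ≤ p ^ d`.
-/

set_option autoImplicit false
set_option linter.unusedSectionVars false

open Cfsg Matrix
open scoped ComplexConjugate

namespace Cfsg.Agent.H616

open Cfsg.Agent.Blocks.Blau Cfsg.Agent.Blocks.Local Cfsg.Agent.Characters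
open Cfsg.Agent.H613 Cfsg.Agent.H613.RegGram Cfsg.Agent.H613.Contrib
  Cfsg.Agent.H613.ContribVal

variable {G : Type*} [Group G] [Fintype G] {p : ℕ} [Fact p.Prime] {M : Ideal AlgInt}

section powers

theorem exists_orderOf_pow {u : G} (hu : ∃ t : ℕ, orderOf u = p ^ t) (k : ℕ) :
    ∃ t : ℕ, orderOf (u ^ k) = p ^ t := by
  obtain ⟨t, ht⟩ := hu
  have h1 : orderOf (u ^ k) ∣ p ^ t := by rw [← ht]; exact orderOf_pow_dvd k
  obtain ⟨s, -, hs⟩ := (Nat.dvd_prime_pow Fact.out).1 h1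
  exact ⟨s, hs⟩

theorem centralizer_val {u : G} {H : Subgroup G} (hH : H = Subgroup.centralizer ({u} : Set G))
    {q : ℕ} (huq : u ^ q = 1) {k : ℕ} (hk : k.Coprime q) :
    H = Subgroup.centralizer ({u ^ k} : Set G) := by
  rw [Blocks.GaloisConj.centralizer_pow_eq huq hk, hH]

end powers

variable {u : G} {H : Subgroup G} [Fintype H] [Fintype (IrrCharacter H)] {q : ℕ}
  {n : IrrCharacter G → IrrCharacter H → ℕ} {e : IrrCharacter H → ℂ}
  {b : Set (IrrCharacter H)} [Fintype b] {P : Matrix b b ℤ} [DecidableEq b]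
  {B : Set (IrrCharacter G)} [Fintype B]
  {l : ℕ} {D : Matrix b (Fin l) ℤ} {E : Matrix (Fin l) b ℤ} {A : Matrix (Fin l) (Fin l) ℤ}

/-- All the data of a subsection and a basic set of its block. -/
structure SubData (p : ℕ) (M : Ideal AlgInt) (u : G) (H : Subgroup G) [Fintype H]
    [Fintype (IrrCharacter H)] (q : ℕ)
    (n : IrrCharacter G → IrrCharacter H → ℕ) (e : IrrCharacter H → ℂ)
    (b : Set (IrrCharacter H)) [Fintype b] (P : Matrix b b ℤ) [DecidableEq b]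
    (B : Set (IrrCharacter G)) {l : ℕ} (D : Matrix b (Fin l) ℤ) (E : Matrix (Fin l) b ℤ)
    (A : Matrix (Fin l) (Fin l) ℤ) : Prop where
  mod : IsPModular p M
  ord : ∃ t : ℕ, orderOf u = p ^ t
  cent : H = Subgroup.centralizer ({u} : Set G)
  pow : u ^ q = 1
  exp : Exp u H q n e
  ind : IsInducedBlock M H b B
  gram : IsGram p b P
  fac : Factor P ((p : ℤ) ^ blockDefect p b) D E A

theorem SubData.orth (h : SubData p M u H q n e b P B D E A) {k : ℕ} (hk : k.Coprime q)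
    (i j : Fin l) :
    ∑ ψ : B, gd n e (fun ξ => D ξ i) ψ k * conj (gd n e (fun ξ => D ξ j) ψ k) =
      ∑ η : b, (D η i : ℂ) * (D η j : ℂ) :=
  sum_gd_mul_conj_gd h.mod h.exp (exists_orderOf_pow h.ord k)
    (centralizer_val h.cent h.pow hk) h.ind h.gram h.fac i j

theorem SubData.contr (h : SubData p M u H q n e b P B D E A) {k : ℕ} (hk : k.Coprime q)
    (χ ψ : IrrCharacter G) :
    (p : ℂ) ^ blockDefect p b * contr p (u ^ k) b (χ : G → ℂ) (ψ : G → ℂ) =
      ∑ i, ∑ j, gd n e (fun ξ => D ξ i) χ k * (A i j : ℂ) *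
        conj (gd n e (fun ξ => D ξ j) ψ k) :=
  contr_eq_gd h.mod h.exp (centralizer_val h.cent h.pow hk) h.ind.1 h.gram h.fac χ ψ

theorem SubData.norm_sq (h : SubData p M u H q n e b P B D E A) {k : ℕ} (hk : k.Coprime q)
    (i : Fin l) :
    ∑ ψ : B, ‖gd n e (fun ξ => D ξ i) ψ k‖ ^ 2 = ((∑ η : b, D η i ^ 2 : ℤ) : ℝ) := by
  have h1 := h.orth hk i i
  have h2 : ((∑ ψ : B, ‖gd n e (fun ξ => D ξ i) ψ k‖ ^ 2 : ℝ) : ℂ) =
      (((∑ η : b, D η i ^ 2 : ℤ) : ℝ) : ℂ) := by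
    push_cast
    rw [Finset.sum_congr rfl fun η _ => sq (D η i : ℂ), ← h1]
    refine Finset.sum_congr rfl fun ψ _ => ?_
    rw [Complex.mul_conj, Complex.normSq_eq_norm_sq]
    push_cast
    rfl
  exact_mod_cast h2

/-- The rows of generalized decomposition numbers of a major subsection are nonzero. -/
theorem SubData.exists_ne_zero (h : SubData p M u H q n e b P B D E A)
    (hd : blockDefect p b = blockDefect p B) {ψ : IrrCharacter G} (hψ : ψ ∈ B) :
    ∃ i, gd n e (fun ξ => D ξ i) ψ 1 ≠ 0 := by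
  by_contra hcon
  push Not at hcon
  obtain ⟨χ, hχ, hχ0⟩ := exists_blockHeight_eq_zero p (isPBlock_nonempty h.mod h.ind.2.1)
  have h1 := H658.contr_ne_zero h.mod h.ord h.cent h.ind hd hψ hχ hχ0
  have h2 := h.contr (k := 1) (Nat.coprime_one_left q) ψ χ
  rw [pow_one] at h2
  have h3 : ∑ i, ∑ j, gd n e (fun ξ => D ξ i) ψ 1 * (A i j : ℂ) *
        conj (gd n e (fun ξ => D ξ j) χ 1) = 0 := by
    refine Finset.sum_eq_zero fun i _ => Finset.sum_eq_zero fun j _ => ?_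
    rw [hcon i, zero_mul, zero_mul]
  rw [h3] at h2
  have hp0 : (p : ℂ) ^ blockDefect p b ≠ 0 := pow_ne_zero _ (by exact_mod_cast h.mod.1.ne_zero)
  exact h1 ((mul_eq_zero.1 h2).resolve_left hp0)

/-- Counting characters by a positive function with known average. -/
theorem card_le_of_avg {β : Type*} [Fintype β] (s : Finset β) {ι : Type*} [Fintype ι] [Nonempty ι]
    (f : β → ι → ℝ) (hf : ∀ x i, 0 ≤ f x i) {r t : ℝ}
    (h1 : ∀ x ∈ s, r * Fintype.card ι ≤ ∑ i, f x i) (h2 : ∀ i, ∑ x, f x i = t) :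
    r * s.card ≤ t := by
  have h3 : (0 : ℝ) < Fintype.card ι := by exact_mod_cast Fintype.card_pos
  have h4 : ∑ x, ∑ i, f x i = t * Fintype.card ι := by
    rw [Finset.sum_comm, Finset.sum_congr rfl fun i _ => h2 i, Finset.sum_const, Finset.card_univ,
      nsmul_eq_mul, mul_comm]
  have h5 : ∑ x ∈ s, ∑ i, f x i ≤ ∑ x, ∑ i, f x i :=
    Finset.sum_le_sum_of_subset_of_nonneg (Finset.subset_univ _)
      fun x _ _ => Finset.sum_nonneg fun i _ => hf x i
  have h6 := Finset.sum_le_sum h1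
  rw [Finset.sum_const, nsmul_eq_mul] at h6
  have h7 : (r * s.card) * Fintype.card ι ≤ t * Fintype.card ι := by
    rw [← h4]
    refine le_trans ?_ h5
    calc r * s.card * Fintype.card ι = s.card * (r * Fintype.card ι) := by ring
      _ ≤ _ := h6
  exact le_of_mul_le_mul_right h7 h3

section one

variable {D₁ : Matrix b (Fin 1) ℤ} {E₁ : Matrix (Fin 1) b ℤ} {A₁ : Matrix (Fin 1) (Fin 1) ℤ}

/-- Columns without zeros. -/
theorem SubData.card_le_of_ne_zero (h : SubData p M u H q n e b P B D E A) (hq : q ≠ 0)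
    (i : Fin l) (s : Finset B) (h0 : ∀ ψ ∈ s, gd n e (fun ξ => D ξ i) ψ 1 ≠ 0) :
    (s.card : ℝ) ≤ ((∑ η : b, D η i ^ 2 : ℤ) : ℝ) := by
  have : NeZero q := ⟨hq⟩
  have h1 := card_le_of_avg s (ι := (ZMod q)ˣ) (r := 1) (t := ((∑ η : b, D η i ^ 2 : ℤ) : ℝ))
    (fun ψ v => ‖gd n e (fun ξ => D ξ i) ψ (v : ZMod q).val‖ ^ 2) (fun _ _ => by positivity)
    (fun ψ hψ => by
      rw [one_mul]
      exact (gd_galFam h.exp hq _ _).card_le_sum_one (h0 ψ hψ) h.mod)
    (fun v => h.norm_sq (ZMod.val_coe_unit_coprime v) i)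
  rwa [one_mul] at h1

end one

section two

variable {D : Matrix b (Fin 2) ℤ} {E : Matrix (Fin 2) b ℤ} {A : Matrix (Fin 2) (Fin 2) ℤ}

/-- The bound `k(B) ≤ a + c - |b|`. -/
theorem SubData.card_le_two (h : SubData p M u H q n e b P B D E A) (hq : q ≠ 0)
    (hd : blockDefect p b = blockDefect p B) :
    ((Fintype.card B : ℤ) : ℝ) ≤
      ((∑ η, D η 0 ^ 2 + ∑ η, D η 1 ^ 2 - |∑ η, D η 0 * D η 1| : ℤ) : ℝ) := by
  have : NeZero q := ⟨hq⟩
  -- the sign
  obtain ⟨s, hs, hsb⟩ : ∃ s : ℤ, (s = 1 ∨ s = -1) ∧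
      |∑ η, D η 0 * D η 1| = s * ∑ η, D η 0 * D η 1 := by
    rcases abs_cases (∑ η, D η 0 * D η 1) with ⟨h3, -⟩ | ⟨h3, -⟩
    · exact ⟨1, Or.inl rfl, by rw [h3, one_mul]⟩
    · exact ⟨-1, Or.inr rfl, by rw [h3]; ring⟩
  have hs2 : (s : ℝ) ^ 2 = 1 := by rcases hs with rfl | rfl <;> norm_num
  have hs0 : (s : ℂ) ≠ 0 := by rcases hs with rfl | rfl <;> norm_num
  let X : B → ℕ → ℂ := fun ψ => gd n e (fun ξ => D ξ 0) ψ
  let Y : B → ℕ → ℂ := fun ψ => gd n e (fun ξ => D ξ 1) ψ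
  have hX : ∀ ψ, GalFam q (X ψ) := fun ψ => gd_galFam h.exp hq _ _
  have hY : ∀ ψ, GalFam q (Y ψ) := fun ψ => gd_galFam h.exp hq _ _
  have hZ : ∀ ψ, GalFam q (fun k => X ψ k - s * Y ψ k) := fun ψ =>
    (hX ψ).sub ((galFam_intCast s).mul (hY ψ))
  have hexp : ∀ ψ k, ‖X ψ k - s * Y ψ k‖ ^ 2 = ‖X ψ k‖ ^ 2 + ‖Y ψ k‖ ^ 2 -
      2 * s * (X ψ k * conj (Y ψ k)).re := by
    intro ψ k
    have h1 : ((‖X ψ k - s * Y ψ k‖ ^ 2 : ℝ) : ℂ) =
        ((‖X ψ k‖ ^ 2 + ‖Y ψ k‖ ^ 2 - 2 * s * (X ψ k * conj (Y ψ k)).re : ℝ) : ℂ) := by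
      have e1 : ∀ z : ℂ, ((‖z‖ ^ 2 : ℝ) : ℂ) = z * conj z := fun z => by
        rw [Complex.mul_conj, Complex.normSq_eq_norm_sq]
      have e2 : ((2 * (X ψ k * conj (Y ψ k)).re : ℝ) : ℂ) =
          X ψ k * conj (Y ψ k) + conj (X ψ k * conj (Y ψ k)) := by
        rw [Complex.add_conj]
      have e3 : ((2 * s * (X ψ k * conj (Y ψ k)).re : ℝ) : ℂ) =
          s * ((2 * (X ψ k * conj (Y ψ k)).re : ℝ) : ℂ) := by push_cast; ring
      have hs2' : (s : ℂ) * s = 1 := by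
        have : ((s : ℝ) : ℂ) ^ 2 = 1 := by exact_mod_cast hs2
        rw [sq] at this
        simpa using this
      rw [e1, Complex.ofReal_sub, Complex.ofReal_add, e1, e1, e3, e2]
      rw [map_sub, map_mul, map_intCast (starRingEnd ℂ), map_mul, Complex.conj_conj]
      linear_combination (Y ψ k * conj (Y ψ k)) * hs2'
    exact_mod_cast h1
  have hnorm : ∀ z : ℂ, (0 : ℝ) ≤ ‖z‖ ^ 2 := fun z => by positivity
  have hre : ∀ v : (ZMod q)ˣ, ∑ ψ, (X ψ (v : ZMod q).val * conj (Y ψ (v : ZMod q).val)).re =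
      ((∑ η, D η 0 * D η 1 : ℤ) : ℝ) := by
    intro v
    have h1 := h.orth (ZMod.val_coe_unit_coprime v) 0 1
    rw [← Complex.re_sum]
    have h2 : ∑ ψ, X ψ (v : ZMod q).val * conj (Y ψ (v : ZMod q).val) =
        (((∑ η, D η 0 * D η 1 : ℤ) : ℝ) : ℂ) := by
      rw [h1]
      push_cast
      rfl
    rw [h2, Complex.ofReal_re]
  have key := card_le_of_avg (Finset.univ : Finset B) (ι := (ZMod q)ˣ) (r := 2)
    (t := 2 * ((∑ η, D η 0 ^ 2 + ∑ η, D η 1 ^ 2 - |∑ η, D η 0 * D η 1| : ℤ) : ℝ))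
    (fun ψ v => ‖X ψ (v : ZMod q).val‖ ^ 2 + ‖Y ψ (v : ZMod q).val‖ ^ 2 +
      ‖X ψ (v : ZMod q).val - s * Y ψ (v : ZMod q).val‖ ^ 2) (fun _ _ => by positivity)
    (fun ψ _ => by
      rw [Finset.sum_add_distrib, Finset.sum_add_distrib]
      have k1 : X ψ 1 ≠ 0 → (Fintype.card (ZMod q)ˣ : ℝ) ≤
        ∑ v : (ZMod q)ˣ, ‖X ψ (v : ZMod q).val‖ ^ 2 := fun h0 => (hX ψ).card_le_sum_one h0 h.mod
      have k2 : Y ψ 1 ≠ 0 → (Fintype.card (ZMod q)ˣ : ℝ) ≤
        ∑ v : (ZMod q)ˣ, ‖Y ψ (v : ZMod q).val‖ ^ 2 := fun h0 => (hY ψ).card_le_sum_one h0 h.mod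
      have k3 : X ψ 1 - s * Y ψ 1 ≠ 0 → (Fintype.card (ZMod q)ˣ : ℝ) ≤
        ∑ v : (ZMod q)ˣ, ‖X ψ (v : ZMod q).val - s * Y ψ (v : ZMod q).val‖ ^ 2 :=
        fun h0 => (hZ ψ).card_le_sum_one h0 h.mod
      have p1 : 0 ≤ ∑ v : (ZMod q)ˣ, ‖X ψ (v : ZMod q).val‖ ^ 2 :=
        Finset.sum_nonneg fun _ _ => hnorm _
      have p2 : 0 ≤ ∑ v : (ZMod q)ˣ, ‖Y ψ (v : ZMod q).val‖ ^ 2 :=
        Finset.sum_nonneg fun _ _ => hnorm _
      have p3 : 0 ≤ ∑ v : (ZMod q)ˣ, ‖X ψ (v : ZMod q).val - s * Y ψ (v : ZMod q).val‖ ^ 2 :=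
        Finset.sum_nonneg fun _ _ => hnorm _
      by_cases hx : X ψ 1 = 0
      · have hy : Y ψ 1 ≠ 0 := by
          obtain ⟨i, hi⟩ := h.exists_ne_zero hd ψ.2
          intro hy
          apply hi
          fin_cases i
          · exact hx
          · exact hy
        have hz : X ψ 1 - s * Y ψ 1 ≠ 0 := by
          rw [hx, zero_sub, neg_ne_zero]
          exact mul_ne_zero hs0 hy
        linarith [k2 hy, k3 hz]
      · by_cases hy : Y ψ 1 = 0
        · have hz : X ψ 1 - s * Y ψ 1 ≠ 0 := by rwa [hy, mul_zero, sub_zero]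
          linarith [k1 hx, k3 hz]
        · linarith [k1 hx, k2 hy])
    (fun v => by
      have c1 := h.norm_sq (ZMod.val_coe_unit_coprime v) 0
      have c2 := h.norm_sq (ZMod.val_coe_unit_coprime v) 1
      have c3 := hre v
      simp only [hexp]
      rw [Finset.sum_add_distrib, Finset.sum_add_distrib, Finset.sum_sub_distrib,
        Finset.sum_add_distrib, ← Finset.mul_sum, c3]
      have c1' : ∑ ψ, ‖X ψ (v : ZMod q).val‖ ^ 2 = ((∑ η : b, D η 0 ^ 2 : ℤ) : ℝ) := c1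
      have c2' : ∑ ψ, ‖Y ψ (v : ZMod q).val‖ ^ 2 = ((∑ η : b, D η 1 ^ 2 : ℤ) : ℝ) := c2
      rw [c1', c2', hsb]
      push_cast
      ring)
  have h8 : (2 : ℝ) * (Fintype.card B : ℝ) ≤
      2 * ((∑ η, D η 0 ^ 2 + ∑ η, D η 1 ^ 2 - |∑ η, D η 0 * D η 1| : ℤ) : ℝ) := by
    rwa [Finset.card_univ] at key
  have h9 := le_of_mul_le_mul_left h8 two_pos
  push_cast at h9 ⊢
  exact h9

/-- The diagonal case. -/
theorem SubData.card_le_diag (h : SubData p M u H q n e b P B D E A) (hq : q ≠ 0)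
    (hd : blockDefect p b = blockDefect p B) {s t : ℕ} (hst : s + t = blockDefect p b)
    (ht : 1 ≤ t) (hA0 : A 0 0 = (p : ℤ) ^ t) (hA1 : A 1 1 = 1) (hA01 : A 0 1 = 0)
    (hA10 : A 1 0 = 0) (h0 : ∑ η, D η 0 ^ 2 = (p : ℤ) ^ s)
    (h1 : ∑ η, D η 1 ^ 2 = (p : ℤ) ^ blockDefect p b) :
    (Fintype.card B : ℝ) ≤ (p : ℝ) ^ blockDefect p b := by
  classical
  have : NeZero q := ⟨hq⟩
  have := isPrime_of_isPModular h.mod
  have hp1 : (1 : ℝ) ≤ p := by exact_mod_cast h.mod.1.one_lt.le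
  have hp2 : (2 : ℝ) ≤ p := by exact_mod_cast h.mod.1.two_le
  have hp0 : (p : ℂ) ≠ 0 := by exact_mod_cast h.mod.1.ne_zero
  let X : IrrCharacter G → ℕ → ℂ := fun ψ => gd n e (fun ξ => D ξ 0) ψ
  let Y : IrrCharacter G → ℕ → ℂ := fun ψ => gd n e (fun ξ => D ξ 1) ψ
  have hX : ∀ ψ, GalFam q (X ψ) := fun ψ => gd_galFam h.exp hq _ _
  have hY : ∀ ψ, GalFam q (Y ψ) := fun ψ => gd_galFam h.exp hq _ _
  have hcontr : ∀ {k : ℕ} (_ : k.Coprime q) (χ ψ : IrrCharacter G),
      (p : ℂ) ^ blockDefect p b * Contrib.contr p (u ^ k) b (χ : G → ℂ) (ψ : G → ℂ) =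
        (p : ℂ) ^ t * (X χ k * conj (X ψ k)) + Y χ k * conj (Y ψ k) := by
    intro k hk χ ψ
    rw [h.contr hk, Fin.sum_univ_two, Fin.sum_univ_two, Fin.sum_univ_two, hA0, hA1, hA01, hA10]
    push_cast
    ring
  by_cases hall : ∀ ψ : B, Y ψ 1 ≠ 0
  · have h2 := h.card_le_of_ne_zero hq 1 Finset.univ (fun ψ _ => hall ψ)
    rw [Finset.card_univ, h1] at h2
    push_cast at h2
    exact h2
  · push Not at hall
    obtain ⟨ψ₀, hψ₀⟩ := hall
    -- characters of height zero have `X ≠ 0`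
    have hheight : ∀ χ ∈ B, blockHeight p B (χ : G → ℂ) = 0 → X χ 1 ≠ 0 := by
      intro χ hχ hχ0 hx
      have h2 := H658.contr_ne_zero h.mod h.ord h.cent h.ind hd ψ₀.2 hχ hχ0
      have h3 := hcontr (Nat.coprime_one_left q) ψ₀ χ
      rw [pow_one, hx, hψ₀, map_zero, mul_zero, mul_zero, zero_mul, add_zero] at h3
      exact h2 ((mul_eq_zero.1 h3).resolve_left (pow_ne_zero _ hp0))
    obtain ⟨χ₀, hχ₀, hχ₀0⟩ := exists_blockHeight_eq_zero p (isPBlock_nonempty h.mod h.ind.2.1)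
    let S1 : Finset B := Finset.univ.filter fun ψ => X ψ 1 ≠ 0
    let S2 : Finset B := Finset.univ.filter fun ψ => ¬ X ψ 1 ≠ 0
    have hS : S1.card + S2.card = Fintype.card B := by
      rw [← Finset.card_univ]
      exact Finset.card_filter_add_card_filter_not _
    have hS1 : (S1.card : ℝ) ≤ (p : ℝ) ^ s := by
      have h2 := h.card_le_of_ne_zero hq 0 S1 (fun ψ hψ => (Finset.mem_filter.1 hψ).2)
      rw [h0] at h2
      push_cast at h2
      exact h2
    have hS2 : (p : ℝ) ^ 2 * (S2.card : ℝ) ≤ (p : ℝ) ^ blockDefect p b := by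
      refine card_le_of_avg S2 (ι := (ZMod q)ˣ) (fun ψ v => ‖Y ψ (v : ZMod q).val‖ ^ 2)
        (fun _ _ => by positivity) (fun ψ hψ => ?_) (fun v => ?_)
      · have hx : X ψ 1 = 0 := not_not.1 (Finset.mem_filter.1 hψ).2
        have hy : Y ψ 1 ≠ 0 := by
          obtain ⟨i, hi⟩ := h.exists_ne_zero hd ψ.2
          intro hy
          apply hi
          fin_cases i
          · exact hx
          · exact hy
        have hht : blockHeight p B ((ψ : IrrCharacter G) : G → ℂ) ≠ 0 := fun h2 =>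
          hheight ψ ψ.2 h2 hx
        have h2 := (hY ψ).card_le_sum hy h.mod (t := 1) (fun v => ?_)
        · simpa using h2
        · have hk := ZMod.val_coe_unit_coprime v
          set k := (v : ZMod q).val with hkdef
          have hcen := centralizer_val h.cent h.pow hk
          have hord := exists_orderOf_pow h.ord k
          have hxk : X ψ k = 0 := (hX ψ).eq_zero hq hx hk
          obtain ⟨w, hw, hw', hwe⟩ := H658.exists_unit_of_height_zero h.mod hord hcen h.ind hd ψ.2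
            hχ₀ hχ₀0
          obtain ⟨w0, hw0, hw0', hw0e⟩ := H658.exists_unit_of_height_zero h.mod hord hcen h.ind hd
            hχ₀ hχ₀ hχ₀0
          rw [← hd, hcontr hk] at hwe hw0e
          rw [hxk, zero_mul, mul_zero, zero_add] at hwe
          rw [hχ₀0, pow_zero, one_mul] at hw0e
          have hYint : MemLocalRing M (conj (Y χ₀ k)) :=
            memLocalRing_of_isIntegral (((hY χ₀).conj hq).integral k)
          have hYint' : MemLocalRing M (Y χ₀ k) :=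
            memLocalRing_of_isIntegral ((hY χ₀).integral k)
          have hunit : ¬ MemLocalIdeal M (conj (Y χ₀ k)) := by
            intro h3
            apply hw0'
            rw [← hw0e]
            refine memLocalIdeal_add (memLocalIdeal_mul_right
              (memLocalIdeal_pow (memLocalIdeal_p h.mod) (by omega)) ?_)
              (memLocalIdeal_mul_left hYint' h3)
            exact memLocalRing_of_isIntegral (((hX χ₀).integral k).mul
              (((hX χ₀).conj hq).integral k))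
          have hne : conj (Y χ₀ k) ≠ 0 := ne_zero_of_not_memLocalIdeal hunit
          obtain ⟨r, hr⟩ := Nat.exists_eq_succ_of_ne_zero hht
          rw [hr] at hwe
          have h3 : Y ψ k / (p : ℂ) ^ 1 = (p : ℂ) ^ r * (w / conj (Y χ₀ k)) := by
            rw [pow_succ] at hwe
            field_simp
            rw [hwe]
            ring
          rw [h3]
          exact memLocalRing_mul (by
            have := memLocalRing_natCast (M := M) (p ^ r)
            push_cast at this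
            exact this) (memLocalRing_div hw hYint hunit)
      · have h2 := h.norm_sq (ZMod.val_coe_unit_coprime v) 1
        rw [h1] at h2
        push_cast at h2
        exact h2
    -- arithmetic
    have h2 : (Fintype.card B : ℝ) = S1.card + S2.card := by rw [← hS]; push_cast; rfl
    have hps : (0 : ℝ) < (p : ℝ) ^ s := by positivity
    have h3 : (p : ℝ) ^ s * p ≤ (p : ℝ) ^ blockDefect p b := by
      rw [← hst, pow_add]
      refine mul_le_mul_of_nonneg_left ?_ hps.le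
      calc (p : ℝ) = (p : ℝ) ^ 1 := (pow_one _).symm
        _ ≤ (p : ℝ) ^ t := pow_le_pow_right₀ hp1 ht
    set T : ℝ := (p : ℝ) ^ blockDefect p b with hT
    have hT0 : 0 < T := by positivity
    have h4 : (p : ℝ) ^ 2 * (Fintype.card B : ℝ) ≤ (p : ℝ) ^ 2 * T := by
      rw [h2, mul_add]
      have h5 : (p : ℝ) ^ 2 * S1.card ≤ p * T := by
        calc (p : ℝ) ^ 2 * S1.card ≤ (p : ℝ) ^ 2 * (p : ℝ) ^ s :=
              mul_le_mul_of_nonneg_left hS1 (by positivity)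
          _ = p * ((p : ℝ) ^ s * p) := by ring
          _ ≤ p * T := mul_le_mul_of_nonneg_left h3 (by linarith)
      have h6 : (p : ℝ) * T + T ≤ (p : ℝ) ^ 2 * T := by
        have : (p : ℝ) + 1 ≤ (p : ℝ) ^ 2 := by nlinarith
        nlinarith
      linarith
    exact le_of_mul_le_mul_left h4 (by positivity)

end two

end Cfsg.Agent.H616
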