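import Mathlib
import Cfsg.Agent.H616.MajorTwo

/-!
# Major subsections of rank at most two: the bound

`card_le_of_rank_le_two`: if `(u, b)` is a major subsection of the block `B` of defect `d` and
`l(b) ≤ 2` then `k(B) ≤ p ^ d`.
-/

set_option autoImplicit false
set_option linter.unusedSectionVars false

open Cfsg Matrix
open scoped ComplexConjugate

namespace Cfsg.Agent.H616

open Cfsg.Agent.Blocks.Blau Cfsg.Agent.Blocks.Local Cfsg.Agent.Characters
open Cfsg.Agent.H613 Cfsg.Agent.H613.RegGram Cfsg.Agent.H613.Contrib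
  Cfsg.Agent.H613.ContribVal

section basic

variable {K : Type*} [Group K] [Fintype K] {p : ℕ} [Fact p.Prime] {M : Ideal AlgInt}
  {b : Set (IrrCharacter K)} [Fintype b] [DecidableEq b] {P : Matrix b b ℤ} {N : ℤ}
  {l : ℕ} {D : Matrix b (Fin l) ℤ} {E : Matrix (Fin l) b ℤ} {A : Matrix (Fin l) (Fin l) ℤ}

/-- `A` has rank one modulo `M`. -/
theorem exists_kappa (hM : IsPModular p M) (hb : IsPBlock M b) (hP : IsGram p b P)
    (hF : Factor P N D E A) :
    ∃ (κ : ℂ) (w : Fin l → ℂ), MemLocalRing M κ ∧ (∀ i, MemLocalRing M (w i)) ∧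
      ∀ i j, MemLocalIdeal M ((A i j : ℂ) - κ * w i * w j) := by
  have := isPrime_of_isPModular hM
  obtain ⟨ξ₀, hξ₀, hξ₀0⟩ := exists_blockHeight_eq_zero p (isPBlock_nonempty hM hb)
  let δ : b → ℂ := fun ξ => (ξ : K → ℂ) 1 / (ξ₀ : K → ℂ) 1
  have hδ : ∀ ξ, MemLocalRing M (δ ξ) := fun ξ => memLocalRing_degree_div hM hξ₀0 ξ.2
  refine ⟨(p : ℂ) ^ blockDefect p b * rg p (ξ₀ : K → ℂ) (ξ₀ : K → ℂ),
    fun i => ∑ ξ : b, (E i ξ : ℂ) * δ ξ,
    memLocalRing_pow_mul_rg hM hξ₀ (Core.isIrr_isCharacter ξ₀.2),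
    fun i => memLocalRing_sum fun ξ _ => memLocalRing_mul (memLocalRing_intCast _) (hδ ξ), ?_⟩
  intro i j
  set κ : ℂ := (p : ℂ) ^ blockDefect p b * rg p (ξ₀ : K → ℂ) (ξ₀ : K → ℂ) with hκ
  have h1 : (A i j : ℂ) = ∑ η : b, ∑ ξ : b, (E i ξ : ℂ) * (P ξ η : ℂ) * (E j η : ℂ) := by
    have h2 := congrFun (congrFun hF.eq' i) j
    rw [h2]
    simp only [Matrix.mul_apply, Matrix.transpose_apply]
    push_cast
    exact Finset.sum_congr rfl fun η _ => by rw [Finset.sum_mul]
  have h2 : κ * (∑ ξ : b, (E i ξ : ℂ) * δ ξ) * (∑ ξ : b, (E j ξ : ℂ) * δ ξ) =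
      ∑ η : b, ∑ ξ : b, (E i ξ : ℂ) * (κ * δ ξ * δ η) * (E j η : ℂ) := by
    rw [Finset.mul_sum]
    refine Finset.sum_congr rfl fun η _ => ?_
    rw [Finset.mul_sum, Finset.sum_mul]
    exact Finset.sum_congr rfl fun ξ _ => by ring
  rw [h1, h2]
  refine memLocalIdeal_sum_sub_sum fun η _ => memLocalIdeal_sum_sub_sum fun ξ _ => ?_
  have h3 := memLocalIdeal_rg_sub hM hb hξ₀ hξ₀0 ξ.2 η.2
  rw [hP.eq ξ η, ← hκ] at h3
  have h4 := memLocalIdeal_mul_right (memLocalIdeal_mul_left
    (memLocalRing_intCast (M := M) (E i ξ)) h3) (memLocalRing_intCast (M := M) (E j η))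
  convert h4 using 1
  ring

/-- `A` is nonzero modulo `p`. -/
theorem exists_not_dvd (hM : IsPModular p M) (hb : IsPBlock M b) (hP : IsGram p b P)
    (hF : Factor P N D E A) : ∃ i j, ¬ (p : ℤ) ∣ A i j := by
  by_contra hcon
  push Not at hcon
  obtain ⟨ξ₀, hξ₀, hξ₀0⟩ := exists_blockHeight_eq_zero p (isPBlock_nonempty hM hb)
  apply not_memLocalIdeal_rg_self hM hb hξ₀ hξ₀0
  have h1 := hP.eq ⟨ξ₀, hξ₀⟩ ⟨ξ₀, hξ₀⟩
  rw [h1, memLocalIdeal_intCast_iff hM, hF.eq, Matrix.mul_assoc, Matrix.mul_apply]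
  refine Finset.dvd_sum fun i _ => Dvd.dvd.mul_left ?_ _
  rw [Matrix.mul_apply]
  exact Finset.dvd_sum fun j _ => Dvd.dvd.mul_right (hcon i j) _

theorem dvd_minor (hM : IsPModular p M) (hb : IsPBlock M b) (hP : IsGram p b P)
    (hF : Factor P N D E A) (i j i' j' : Fin l) :
    (p : ℤ) ∣ A i j * A i' j' - A i j' * A i' j := by
  have := isPrime_of_isPModular hM
  obtain ⟨κ, w, hκ, hw, h⟩ := exists_kappa hM hb hP hF
  rw [← memLocalIdeal_intCast_iff hM]
  have hz : ∀ i j, MemLocalRing M (A i j : ℂ) := fun i j => memLocalRing_intCast _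
  have hk : ∀ i j, MemLocalRing M (κ * w i * w j) := fun i j =>
    memLocalRing_mul (memLocalRing_mul hκ (hw i)) (hw j)
  have h1 := memLocalIdeal_sub (memLocalIdeal_mul_sub_mul (hz i j) (hk i' j') (h i j) (h i' j'))
    (memLocalIdeal_mul_sub_mul (hz i j') (hk i' j) (h i j') (h i' j))
  convert h1 using 1
  push_cast
  ring

end basic

variable {G : Type*} [Group G] [Fintype G] {p : ℕ} [Fact p.Prime] {M : Ideal AlgInt}

/-- **Major subsections of rank at most two**: `k(B) ≤ p ^ d`. -/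
theorem card_le_of_rank_le_two (hM : IsPModular p M) {u : G} (hu : ∃ k : ℕ, orderOf u = p ^ k)
    {H : Subgroup G} (hH : H = Subgroup.centralizer ({u} : Set G)) {b : Set (IrrCharacter H)}
    {B : Set (IrrCharacter G)} (hind : IsInducedBlock M H b B)
    (hd : blockDefect p b = blockDefect p B) (hl : blockRank p b ≤ 2) :
    Nat.card B ≤ p ^ blockDefect p B := by
  classical
  have := Fintype.ofFinite H
  have := Core.finite_irr (G := H)
  have := Fintype.ofFinite (IrrCharacter H)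
  have := Core.finite_irr (G := G)
  have := Fintype.ofFinite (IrrCharacter G)
  have : Fintype b := Fintype.ofFinite b
  have : Fintype B := Fintype.ofFinite B
  obtain ⟨P, D, E, A, hP, hF⟩ := exists_factor_block hM (b := b) hind.1
  have hgoal : (Fintype.card B : ℝ) ≤ (p : ℝ) ^ blockDefect p b := by
    obtain ⟨j', hj'⟩ := hu
    have huq : u ^ p ^ j' = 1 := by rw [← hj']; exact pow_orderOf_eq_one u
    obtain ⟨n', e', hE'⟩ := exists_exp hH huq
    have hq' : p ^ j' ≠ 0 := pow_ne_zero _ hM.1.ne_zero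
    generalize hl' : blockRank p b = l at D E A hF hl
    have hS : SubData p M u H (p ^ j') n' e' b P B D E A :=
      ⟨hM, ⟨j', hj'⟩, hH, huq, hE', hind, hP, by convert hF⟩
    obtain ⟨χ₀, hχ₀, -⟩ := exists_blockHeight_eq_zero p (isPBlock_nonempty hM hind.2.1)
    have hcases : l = 0 ∨ l = 1 ∨ l = 2 := by omega
    rcases hcases with rfl | rfl | rfl
    · obtain ⟨i, -⟩ := hS.exists_ne_zero hd hχ₀
      exact i.elim0
    · -- rank one
      have h1 := hS.card_le_of_ne_zero hq' 0 Finset.univ (fun ψ _ => by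
        obtain ⟨i, hi⟩ := hS.exists_ne_zero hd ψ.2
        have : i = 0 := Subsingleton.elim _ _
        rwa [this] at hi)
      rw [Finset.card_univ] at h1
      refine h1.trans ?_
      have h2 := congrFun (congrFun hS.fac.mul 0) 0
      rw [Matrix.mul_apply, Fin.sum_univ_one, Matrix.mul_apply, Matrix.smul_apply,
        Matrix.one_apply_eq, smul_eq_mul, mul_one] at h2
      simp only [Matrix.transpose_apply, ← sq] at h2
      have hA : 1 ≤ A 0 0 := by
        by_contra hneg
        push Not at hneg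
        have h3 : (0 : ℤ) < (p : ℤ) ^ blockDefect p b := by
          have : (0 : ℤ) < p := by exact_mod_cast hM.1.pos
          positivity
        have h4 : (0 : ℤ) ≤ ∑ η, D η 0 ^ 2 := by positivity
        nlinarith
      have h5 : ∑ η, D η 0 ^ 2 ≤ (p : ℤ) ^ blockDefect p b := by
        rw [← h2]
        have h4 : (0 : ℤ) ≤ ∑ η, D η 0 ^ 2 := by positivity
        nlinarith
      have h6 : ((∑ η, D η 0 ^ 2 : ℤ) : ℝ) ≤ (((p : ℤ) ^ blockDefect p b : ℤ) : ℝ) := by
        exact_mod_cast h5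
      refine h6.trans (le_of_eq ?_)
      push_cast
      rfl
    · -- rank two
      obtain ⟨D', E', A', hF', hr0, hr1⟩ := exists_reduced hS.fac
      have hS' : SubData p M u H (p ^ j') n' e' b P B D' E' A' :=
        ⟨hM, ⟨j', hj'⟩, hH, huq, hE', hind, hP, hF'⟩
      have hsym : A' 1 0 = A' 0 1 := by
        have := congrFun (congrFun hF'.symm 0) 1
        rwa [transpose_apply] at this
      have hmul : ∀ i j, (A' * (D'ᵀ * D')) i j =
          A' i 0 * ∑ η, D' η 0 * D' η j + A' i 1 * ∑ η, D' η 1 * D' η j := by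
        intro i j
        rw [Matrix.mul_apply, Fin.sum_univ_two, Matrix.mul_apply, Matrix.mul_apply]
        simp only [Matrix.transpose_apply]
      have hcomm : ∑ η, D' η 1 * D' η 0 = ∑ η, D' η 0 * D' η 1 :=
        Finset.sum_congr rfl fun η _ => mul_comm _ _
      have m00 := congrFun (congrFun hF'.mul 0) 0
      have m01 := congrFun (congrFun hF'.mul 0) 1
      have m10 := congrFun (congrFun hF'.mul 1) 0
      have m11 := congrFun (congrFun hF'.mul 1) 1
      rw [hmul, Matrix.smul_apply, Matrix.one_apply_eq, smul_eq_mul, mul_one, hcomm] at m00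
      rw [hmul, Matrix.smul_apply, Matrix.one_apply_ne (by decide), smul_zero] at m01
      rw [hmul, Matrix.smul_apply, Matrix.one_apply_ne (by decide), smul_zero, hcomm, hsym] at m10
      rw [hmul, Matrix.smul_apply, Matrix.one_apply_eq, smul_eq_mul, mul_one, hsym] at m11
      simp only [← sq] at m00 m01 m10 m11
      have hp : ¬ ((p : ℤ) ∣ A' 0 0 ∧ (p : ℤ) ∣ A' 0 1 ∧ (p : ℤ) ∣ A' 1 1) := by
        rintro ⟨h1, h2, h3⟩
        obtain ⟨i, j, hij⟩ := exists_not_dvd hM hind.1 hP hF'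
        apply hij
        fin_cases i <;> fin_cases j
        · exact h1
        · exact h2
        · have h4 : (p : ℤ) ∣ A' 1 0 := by rw [hsym]; exact h2
          exact h4
        · exact h3
      have hdet : (p : ℤ) ∣ A' 0 0 * A' 1 1 - A' 0 1 ^ 2 := by
        have := dvd_minor hM hind.1 hP hF' 0 0 1 1
        rwa [hsym, ← sq] at this
      rcases reduced_cases m00 m01 m10 m11 (by positivity) (by positivity) hr0 hr1 hp hdet with
        h1 | ⟨-, hβ, s, t, hst, ht, h1 | h1⟩
      · have h2 := hS'.card_le_two hq' hd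
        have h3 : ((∑ η, D' η 0 ^ 2 + ∑ η, D' η 1 ^ 2 - |∑ η, D' η 0 * D' η 1| : ℤ) : ℝ) ≤
            (((p : ℤ) ^ blockDefect p b : ℤ) : ℝ) := by exact_mod_cast h1
        have h4 := h2.trans h3
        push_cast at h4
        exact h4
      · obtain ⟨ha, hc, hα, hγ⟩ := h1
        exact hS'.card_le_diag hq' hd hst ht hα hγ hβ (hsym.trans hβ) ha hc
      · obtain ⟨hc, ha, hγ, hα⟩ := h1
        obtain ⟨D'', E'', A'', hF'', hD0, hD1, hA0, hA1, hA01, hA10⟩ := hF'.swap
        have hS'' : SubData p M u H (p ^ j') n' e' b P B D'' E'' A'' :=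
          ⟨hM, ⟨j', hj'⟩, hH, huq, hE', hind, hP, hF''⟩
        refine hS''.card_le_diag hq' hd hst ht (hA0.trans hγ) (hA1.trans hα) (hA01.trans hβ)
          (hA10.trans (hsym.trans hβ)) ?_ ?_
        · rw [← hc]; exact Finset.sum_congr rfl fun η _ => by rw [hD0]
        · rw [← ha]; exact Finset.sum_congr rfl fun η _ => by rw [hD1]
  rw [Nat.card_eq_fintype_card, ← hd]
  exact_mod_cast hgoal

end Cfsg.Agent.H616
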