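import Cfsg.Agent.H616.ExtLU
import Cfsg.Prelude.Def_Classification2
import Cfsg.Agent.S0280

/-!
# Unitary groups with nonabelian Sylow `p`-subgroups of order `p³`, `p = 2`, `p ∣ q` or `p ∣ q + 1`
(helper616, for S2215)
-/

set_option autoImplicit false

namespace Cfsg.Agent.H616.ExtPSU

open Cfsg Cfsg.Lie Cfsg.Agent.H92.ExtP

variable {p : ℕ} [Fact p.Prime]

theorem eq_of_primePow {q : ℕ} (hq : IsPrimePow q) (h1 : p ∣ q) (h2 : ¬ p ^ 2 ∣ q) : q = p := by
  have hp : p.Prime := Fact.out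
  obtain ⟨r, k, hr, hk, rfl⟩ := hq
  have hr' : r.Prime := hr.nat_prime
  have hpr : p = r := (Nat.prime_dvd_prime_iff_eq hp hr').1 (hp.dvd_of_dvd_pow h1)
  subst hpr
  have hk1 : k = 1 := by
    by_contra h3
    exact h2 (pow_dvd_pow p (by omega))
  rw [hk1, pow_one]

theorem card_eq {F : Type} [Field F] [Fintype F] {n q : ℕ} (hn : 3 ≤ n) (hF : Fintype.card F = q ^ 2) :
    Nat.gcd n (q + 1) * Nat.card (PSU n F q) = q ^ (n * (n - 1) / 2) *
      ∏ i ∈ Finset.range (n - 1), (if Even (i + 2) then q ^ (i + 2) - 1 else q ^ (i + 2) + 1) := by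
  have h := S0280.result hF n (by omega)
  obtain ⟨k, rfl⟩ : ∃ k, n = k + 1 := ⟨n - 1, by omega⟩
  rw [Finset.prod_range_succ', Nat.add_sub_cancel] at h
  rw [Nat.add_sub_cancel]
  have h2 : ∏ i ∈ Finset.range k, (if Even (i + 1) then q ^ (i + 1 + 1) + 1 else q ^ (i + 1 + 1) - 1) =
      ∏ i ∈ Finset.range k, (if Even (i + 2) then q ^ (i + 2) - 1 else q ^ (i + 2) + 1) := by
    refine Finset.prod_congr rfl fun i _ => ?_
    by_cases he : Even (i + 1)
    · rw [if_pos he, if_neg]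
      rw [Nat.not_even_iff_odd]
      exact he.add_one
    · rw [if_neg he, if_pos]
      rw [Nat.not_even_iff_odd] at he
      exact he.add_one
  rw [h2, if_pos Even.zero, zero_add, pow_one] at h
  have h3 : 0 < q + 1 := Nat.succ_pos _
  refine Nat.eq_of_mul_eq_mul_left h3 ?_
  calc (q + 1) * (Nat.gcd (k + 1) (q + 1) * Nat.card (PSU (k + 1) F q)) =
      Nat.gcd (k + 1) (q + 1) * ((q + 1) * Nat.card (PSU (k + 1) F q)) := by ring
    _ = _ := h
    _ = _ := by ring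

theorem two_le {F : Type} [Field F] [Fintype F] {q : ℕ} (hF : Fintype.card F = q ^ 2) : 2 ≤ q := by
  have hq : 1 < Fintype.card F := Fintype.one_lt_card
  rw [hF] at hq
  by_contra h2
  have h3 : q ≤ 1 := by omega
  have h4 : q ^ 2 ≤ 1 := Nat.pow_le_one_iff (by norm_num) |>.2 h3
  omega

theorem psu {F : Type} [Field F] [Fintype F] {n q : ℕ} (hn : 3 ≤ n) (hF : Fintype.card F = q ^ 2)
    (hp : p = 2 ∨ p ∣ q) (h : Ext p (PSU n F q)) : n = 3 ∧ q = p := by
  obtain ⟨h1, h2, _⟩ := ExtLU.unitary h hn (two_le hF) (card_eq hn hF)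
  have hpq : p ∣ q := by
    rcases hp with h3 | h3
    · have := h2 h3
      rw [h3]
      exact this
    · exact h3
  obtain ⟨h4, h5⟩ := h1 hpq
  have hq2 : IsPrimePow (q ^ 2) := hF ▸ Fintype.isPrimePow_card_of_field
  exact ⟨h4, eq_of_primePow ((isPrimePow_pow_iff (by norm_num)).1 hq2) hpq h5⟩

theorem psu' {F : Type} [Field F] [Fintype F] {n q : ℕ} (hn : 3 ≤ n) (hF : Fintype.card F = q ^ 2)
    (hp : p ≠ 2) (hpq : p ∣ q + 1) (h : Ext p (PSU n F q)) : n ≤ 4 ∧ 5 ≤ p := by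
  obtain ⟨_, _, h3⟩ := ExtLU.unitary h hn (two_le hF) (card_eq hn hF)
  obtain ⟨h4, h5⟩ := h3 hp hpq
  have hpp : p.Prime := Fact.out
  refine ⟨h4, ?_⟩
  by_contra h6
  have h7 := hpp.two_le
  have h8 : p = 4 := by omega
  rw [h8] at hpp
  exact absurd hpp (by norm_num)

end Cfsg.Agent.H616.ExtPSU
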