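import Cfsg.Agent.H616.ExtLU
import Cfsg.Agent.H616.ExtPSU
import Cfsg.Prelude.Def_Classification2
import Cfsg.Agent.S0243
import Cfsg.Agent.S0262
import Cfsg.Agent.LieClassical.SLTwoUnipotent

/-!
# Linear groups with nonabelian Sylow `p`-subgroups of order `p³`, `p = 2`, `p ∣ q` or `p ∣ q - 1`
(helper616, for S2215)
-/

set_option autoImplicit false

namespace Cfsg.Agent.H616.ExtPSL

open Cfsg Cfsg.Lie Cfsg.Agent.H92.ExtP Matrix Cfsg.Agent.LieClassical.SLTwoUnipotent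

variable {p : ℕ} [Fact p.Prime]

/-! ### dimension at least three -/

theorem card_eq {F : Type} [Field F] [Fintype F] {n : ℕ} (hn : 2 ≤ n) :
    Nat.gcd n (Fintype.card F - 1) * Nat.card (Matrix.ProjectiveSpecialLinearGroup (Fin n) F) =
      Fintype.card F ^ (n * (n - 1) / 2) * ∏ i ∈ Finset.range (n - 1), (Fintype.card F ^ (i + 2) - 1) := by
  have hq : 1 < Fintype.card F := Fintype.one_lt_card
  have h := S0243.result (F := F) rfl n hn
  rw [ExtLU.prod_gl n _ (by omega)] at h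
  refine Nat.eq_of_mul_eq_mul_left (by omega : 0 < Fintype.card F - 1) ?_
  rw [← h]
  ring

theorem psl {F : Type} [Field F] [Fintype F] {n : ℕ} (hn : 3 ≤ n) (hp : p = 2 ∨ p ∣ Fintype.card F)
    (h : Ext p (Matrix.ProjectiveSpecialLinearGroup (Fin n) F)) : n = 3 ∧ Fintype.card F = p := by
  have hq : 1 < Fintype.card F := Fintype.one_lt_card
  obtain ⟨h1, h2, _⟩ := ExtLU.linear h hn hq (card_eq (by omega))
  have hpq : p ∣ Fintype.card F := by
    rcases hp with h3 | h3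
    · have := h2 h3
      rw [h3]
      exact this
    · exact h3
  obtain ⟨h4, h5⟩ := h1 hpq
  exact ⟨h4, ExtPSU.eq_of_primePow Fintype.isPrimePow_card_of_field hpq h5⟩

theorem psl' {F : Type} [Field F] [Fintype F] {n : ℕ} (hn : 3 ≤ n) (hp : p ≠ 2) (hpq : p ∣ Fintype.card F - 1)
    (h : Ext p (Matrix.ProjectiveSpecialLinearGroup (Fin n) F)) : n ≤ 4 ∧ 5 ≤ p := by
  have hq : 1 < Fintype.card F := Fintype.one_lt_card
  obtain ⟨_, _, h3⟩ := ExtLU.linear h hn hq (card_eq (by omega))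
  obtain ⟨h4, h5⟩ := h3 hp hpq
  have hpp : p.Prime := Fact.out
  refine ⟨h4, ?_⟩
  by_contra h6
  have h7 := hpp.two_le
  have h8 : p = 4 := by omega
  rw [h8] at hpp
  exact absurd hpp (by norm_num)

/-! ### dimension two -/

theorem comm_char {F : Type} [Field F] [Fintype F] [CharP F p] (P : Subgroup (SpecialLinearGroup (Fin 2) F))
    (hP : IsPGroup p P) {a b : SpecialLinearGroup (Fin 2) F} (ha : a ∈ P) (hb : b ∈ P) : a * b = b * a := by
  obtain ⟨Q, hQ⟩ := hP.exists_le_sylow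
  obtain ⟨c, hc⟩ := exists_smul_upperUnipSylowSL_eq p Q
  have ha' := hQ ha
  have hb' := hQ hb
  rw [← hc] at ha' hb'
  have ha2 := eq_u_of_mem_upperUnipSL ((mem_smul_upperUnipSylowSL_iff p).1 ha')
  have hb2 := eq_u_of_mem_upperUnipSL ((mem_smul_upperUnipSylowSL_iff p).1 hb')
  have h1 : (c⁻¹ * a * c) * (c⁻¹ * b * c) = (c⁻¹ * b * c) * (c⁻¹ * a * c) := by
    rw [ha2, hb2, ← u_add, ← u_add, add_comm]
  have h2 : c⁻¹ * (a * b) * c = c⁻¹ * (b * a) * c := by
    calc c⁻¹ * (a * b) * c = (c⁻¹ * a * c) * (c⁻¹ * b * c) := by group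
      _ = (c⁻¹ * b * c) * (c⁻¹ * a * c) := h1
      _ = c⁻¹ * (b * a) * c := by group
  exact mul_left_cancel (mul_right_cancel h2)

theorem mod_sixteen {q : ℕ} (h1 : 16 ∣ q ^ 2 - 1) (h2 : ¬ 32 ∣ q ^ 2 - 1) (hq : 1 ≤ q) :
    q % 16 = 7 ∨ q % 16 = 9 := by
  have key : ∀ r < 32, (r ^ 2 % 16 = 1 ∧ r ^ 2 % 32 ≠ 1) → (r % 16 = 7 ∨ r % 16 = 9) := by decide
  have h3 : q ^ 2 % 16 = 1 := ((Nat.modEq_iff_dvd' (Nat.one_le_pow 2 q hq)).2 h1).symm
  have h4 : q ^ 2 % 32 ≠ 1 := fun h5 => h2 ((Nat.modEq_iff_dvd' (Nat.one_le_pow 2 q hq)).1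
    (show 1 % 32 = q ^ 2 % 32 by rw [h5]))
  have h5 := key (q % 32) (Nat.mod_lt _ (by norm_num)) ⟨?_, ?_⟩
  · omega
  · have h6 : (q % 32) ^ 2 % 32 % 16 = q ^ 2 % 32 % 16 := by rw [← Nat.pow_mod]
    omega
  · rw [← Nat.pow_mod]
    exact h4

theorem psl_two {F : Type} [Field F] [Fintype F] (h : Ext p (Matrix.ProjectiveSpecialLinearGroup (Fin 2) F)) :
    p = 2 ∧ (Fintype.card F % 16 = 7 ∨ Fintype.card F % 16 = 9) := by
  have hpp : p.Prime := Fact.out
  have hq : 1 < Fintype.card F := Fintype.one_lt_card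
  obtain ⟨P, hP, _, a, ha, b, hb, hab⟩ := h.exists_lift
    (QuotientGroup.mk' (Subgroup.center (SpecialLinearGroup (Fin 2) F))) (QuotientGroup.mk'_surjective _)
  have hnc : a * b ≠ b * a := fun h2 => hab (by rw [← map_mul, ← map_mul, h2])
  obtain ⟨r, hr⟩ := CharP.exists F
  have hrp : r.Prime := (CharP.char_is_prime_or_zero F r).resolve_right (CharP.char_ne_zero_of_finite F r)
  have : Fact r.Prime := ⟨hrp⟩
  by_cases hpr : p = r
  · subst hpr
    exact absurd (comm_char P hP ha hb) hnc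
  by_cases hp2 : p = 2
  · refine ⟨hp2, ?_⟩
    subst hp2
    have hodd : Odd (Fintype.card F) := by
      obtain ⟨n, _, hn⟩ := FiniteField.card F r
      rw [hn]
      exact (hrp.odd_of_ne_two (Ne.symm hpr)).pow
    have hc := card_eq (F := F) (n := 2) le_rfl
    have hg : Nat.gcd 2 (Fintype.card F - 1) = 2 := by
      refine Nat.gcd_eq_left ?_
      obtain ⟨k, hk⟩ := hodd
      exact ⟨k, by omega⟩
    rw [hg, show 2 - 1 = 1 from rfl, Finset.prod_range_one] at hc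
    change 2 * Nat.card (Matrix.ProjectiveSpecialLinearGroup (Fin 2) F) =
      Fintype.card F ^ 1 * (Fintype.card F ^ 2 - 1) at hc
    rw [pow_one] at hc
    refine mod_sixteen ?_ ?_ hq.le
    · have h1 : 16 ∣ Fintype.card F * (Fintype.card F ^ 2 - 1) := by
        rw [← hc]
        exact mul_dvd_mul_left 2 h.dvd
      refine (Nat.Coprime.dvd_of_dvd_mul_left ?_ h1)
      exact Nat.Coprime.pow_left 4 (Nat.coprime_two_left.2 hodd)
    · intro h1
      have h2 : 2 * 2 ^ 4 ∣ 2 * Nat.card (Matrix.ProjectiveSpecialLinearGroup (Fin 2) F) := by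
        rw [hc]
        exact h1.mul_left _
      exact h.not_dvd (Nat.dvd_of_mul_dvd_mul_left (by norm_num) h2)
  · obtain ⟨Q, hQ⟩ := hP.exists_le_sylow
    have hcyc := S0262.result r p hp2 hpr Q
    refine absurd ?_ hnc
    have h3 : (⟨a, hQ ha⟩ : ↥(Q : Subgroup (SpecialLinearGroup (Fin 2) F))) * ⟨b, hQ hb⟩ =
        ⟨b, hQ hb⟩ * ⟨a, hQ ha⟩ := by
      obtain ⟨g, hg⟩ := hcyc.exists_generator
      obtain ⟨i, hi⟩ := hg ⟨a, hQ ha⟩
      obtain ⟨j, hj⟩ := hg ⟨b, hQ hb⟩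
      rw [← hi, ← hj]
      exact (Commute.zpow_zpow_self g i j).eq
    exact congrArg Subtype.val h3

end Cfsg.Agent.H616.ExtPSL
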