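import Cfsg.Agent.H616.ExtNum
import Cfsg.Prelude.Def_Classification2
import Cfsg.Agent.S0245
import Cfsg.Agent.S0246
import Cfsg.Agent.S0292
import Cfsg.Agent.S0293
import Cfsg.Agent.S0294

/-!
# Symplectic and orthogonal groups have no nonabelian Sylow `p`-subgroup of order `p³` for `p = 2, 3` or `p ∣ q`
(helper616, for S2215)
-/

set_option autoImplicit false

namespace Cfsg.Agent.H616.ExtSp

open Cfsg Cfsg.Lie Cfsg.Agent.H92.ExtP

variable {p : ℕ} [Fact p.Prime]

theorem psp {F : Type} [Field F] [Fintype F] {m : ℕ} (hm : 2 ≤ m) (hp : p = 2 ∨ p ∣ Fintype.card F)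
    (h : Ext p (PSp m F)) : False := by
  have hq : 1 < Fintype.card F := Fintype.one_lt_card
  have hc : Nat.gcd 2 (Fintype.card F - 1) * Nat.card (PSp m F) =
      Fintype.card F ^ (m ^ 2) * ∏ i ∈ Finset.range m, (Fintype.card F ^ (2 * (i + 1)) - 1) := by
    have h1 := S0245.result (F := F) rfl m
    have h2 := S0246.result (F := F) rfl m (by omega)
    have h3 := Subgroup.card_eq_card_quotient_mul_card_subgroup
      (Subgroup.center (Matrix.symplecticGroup (Fin m) F))
    rw [h1, h2] at h3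
    rw [mul_comm]
    exact h3.symm
  refine ExtNum.sp_false h hm hq (Nat.gcd_dvd_left _ _) ?_ hc ?_
  · rw [pow_one]
    exact Nat.gcd_dvd_right _ _
  · rcases hp with h1 | h1
    · exact Or.inl h1
    · exact Or.inr (Or.inr h1)

theorem pomega_odd {F : Type} [Field F] [Fintype F] {m : ℕ} (hm : 3 ≤ m) (hodd : Odd (Fintype.card F))
    (hp : p = 2 ∨ p = 3 ∨ p ∣ Fintype.card F) (h : Ext p (POmega F (quadFormOdd m F))) : False := by
  have hq : 1 < Fintype.card F := Fintype.one_lt_card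
  have hc := S0292.result (F := F) rfl hodd m hm
  refine ExtNum.sp_false h (by omega) hq dvd_rfl ?_ hc ?_
  · rw [pow_one]
    obtain ⟨k, hk⟩ := hodd
    exact ⟨k, by omega⟩
  · rcases hp with h1 | h1 | h1
    · exact Or.inl h1
    · exact Or.inr (Or.inl ⟨h1, hm⟩)
    · exact Or.inr (Or.inr h1)

theorem pomega_plus {F : Type} [Field F] [Fintype F] {m : ℕ} (hm : 4 ≤ m)
    (hp : p = 2 ∨ p = 3 ∨ p ∣ Fintype.card F) (h : Ext p (POmega F (quadFormPlus m F))) : False := by
  have hq : 1 < Fintype.card F := Fintype.one_lt_card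
  have hc := S0293.result (F := F) rfl m hm
  exact ExtNum.oe_false h hm (Nat.gcd_dvd_left _ _)
    (fun r hr hrq => ExtNum.not_dvd_sub_one hr hrq (by omega) hq.le (Nat.gcd_dvd_right _ _)) hc hp

theorem pomega_minus {F : Type} [Field F] [Fintype F] {m : ℕ} (hm : 4 ≤ m) {a b : F}
    (hab : ∀ z₁ z₂ : F, z₁ ^ 2 + a * z₁ * z₂ + b * z₂ ^ 2 = 0 → z₁ = 0 ∧ z₂ = 0)
    (hp : p = 2 ∨ p = 3 ∨ p ∣ Fintype.card F) (h : Ext p (POmega F (quadFormMinus (m - 1) F a b))) : False := by
  have hc := S0294.result (F := F) rfl m hm a b hab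
  exact ExtNum.oe_false h hm (Nat.gcd_dvd_left _ _)
    (fun r hr hrq => ExtNum.not_dvd_add_one hr hrq (by omega) (Nat.gcd_dvd_right _ _)) hc hp

end Cfsg.Agent.H616.ExtSp
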