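import Mathlib

/-!
# Averages over the Galois group of a cyclotomic field of prime power conductor

`avg_ge`: for vectors `F k = ∑ m ξ * e ξ ^ k • T ξ` with integers `m ξ`, roots of unity `e ξ` of
order dividing `p ^ (j + 1)` and real vectors `T ξ` such that integral combinations of the `T ξ`
which are not relations have norm at least one, the average of `‖F v‖ ^ 2` over the units `v` modulo
`p ^ (j + 1)` is at least one, if `F 1` is not a relation.
-/

set_option autoImplicit false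
set_option linter.unusedSectionVars false

open scoped ComplexConjugate

namespace Cfsg.Agent.H616.FormAvg

section units

variable {p j : ℕ} [hp : Fact p.Prime]

/-- Sums over the units modulo `p ^ (j + 1)`. -/
theorem sum_units (f : ℕ → ℂ) :
    ∑ v : (ZMod (p ^ (j + 1)))ˣ, f (v : ZMod (p ^ (j + 1))).val =
      ∑ k ∈ Finset.range (p ^ (j + 1)), f k - ∑ k ∈ Finset.range (p ^ j), f (p * k) := by
  have hp0 : 0 < p := hp.out.pos
  have : NeZero (p ^ (j + 1)) := ⟨pow_ne_zero _ hp0.ne'⟩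
  have h1 : ∑ k ∈ Finset.range (p ^ j), f (p * k) =
      ∑ k ∈ (Finset.range (p ^ (j + 1))).filter (fun k => ¬ k.Coprime (p ^ (j + 1))), f k := by
    refine Finset.sum_bij (fun k _ => p * k) ?_ ?_ ?_ ?_
    · intro k hk
      rw [Finset.mem_filter, Finset.mem_range]
      refine ⟨?_, ?_⟩
      · rw [pow_succ, mul_comm]
        exact Nat.mul_lt_mul_of_pos_right (Finset.mem_range.1 hk) hp0
      · rw [Nat.coprime_pow_right_iff (Nat.succ_pos j), Nat.coprime_comm,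
          hp.out.coprime_iff_not_dvd]
        exact fun h => h (dvd_mul_right p k)
    · intro k _ k' _ h
      exact Nat.eq_of_mul_eq_mul_left hp0 h
    · intro k hk
      rw [Finset.mem_filter, Finset.mem_range, Nat.coprime_pow_right_iff (Nat.succ_pos j),
        Nat.coprime_comm, hp.out.coprime_iff_not_dvd, not_not] at hk
      obtain ⟨k', rfl⟩ := hk.2
      refine ⟨k', ?_, rfl⟩
      rw [Finset.mem_range]
      have h2 := hk.1
      rw [pow_succ, mul_comm (p ^ j)] at h2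
      exact Nat.lt_of_mul_lt_mul_left h2
    · intro k _
      rfl
  have h2 : ∑ v : (ZMod (p ^ (j + 1)))ˣ, f (v : ZMod (p ^ (j + 1))).val =
      ∑ k ∈ (Finset.range (p ^ (j + 1))).filter (fun k => k.Coprime (p ^ (j + 1))), f k := by
    refine Finset.sum_bij (fun v _ => (v : ZMod (p ^ (j + 1))).val) ?_ ?_ ?_ ?_
    · intro v _
      rw [Finset.mem_filter, Finset.mem_range]
      exact ⟨ZMod.val_lt _, ZMod.val_coe_unit_coprime v⟩
    · intro v _ v' _ h
      exact Units.ext (ZMod.val_injective _ h)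
    · intro k hk
      rw [Finset.mem_filter, Finset.mem_range] at hk
      refine ⟨ZMod.unitOfCoprime k hk.2, Finset.mem_univ _, ?_⟩
      rw [ZMod.coe_unitOfCoprime, ZMod.val_natCast, Nat.mod_eq_of_lt hk.1]
    · intro v _
      rfl
  rw [h1, h2, eq_sub_iff_add_eq, Finset.sum_filter_add_sum_filter_not]

theorem sum_pow_range {q : ℕ} {z : ℂ} (hz : z ^ q = 1) :
    ∑ k ∈ Finset.range q, z ^ k = if z = 1 then (q : ℂ) else 0 := by
  split_ifs with h
  · subst h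
    simp
  · have h1 := mul_geom_sum z q
    rw [hz, sub_self] at h1
    exact (mul_eq_zero.1 h1).resolve_left (sub_ne_zero.2 h)

/-- Ramanujan sums. -/
theorem sum_units_pow {z : ℂ} (hz : z ^ p ^ (j + 1) = 1) :
    ∑ v : (ZMod (p ^ (j + 1)))ˣ, z ^ (v : ZMod (p ^ (j + 1))).val =
      (if z = 1 then ((p : ℂ) ^ (j + 1)) else 0) - if z ^ p = 1 then ((p : ℂ) ^ j) else 0 := by
  rw [sum_units (fun k => z ^ k), sum_pow_range hz]
  have h1 : ∀ k, z ^ (p * k) = (z ^ p) ^ k := fun k => pow_mul z p k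
  simp only [h1]
  rw [sum_pow_range (by rw [← pow_mul, mul_comm, ← pow_succ]; exact hz)]
  push_cast
  rfl

end units

section roots

variable {p j : ℕ} [hp : Fact p.Prime] {ζ : ℂ} (hζ : IsPrimitiveRoot ζ (p ^ (j + 1)))

/-- The roots of unity indexed by their classes modulo the `p`-th roots of unity. -/
noncomputable def rt (p j : ℕ) (ζ : ℂ) (x : Fin (p ^ j) × Fin p) : ℂ :=
  ζ ^ ((x.1 : ℕ) + p ^ j * (x.2 : ℕ))

include hζ

omit hp in
theorem rt_pow (x : Fin (p ^ j) × Fin p) : rt p j ζ x ^ p ^ (j + 1) = 1 := by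
  rw [rt, ← pow_mul, mul_comm, pow_mul, hζ.pow_eq_one, one_pow]

omit hp in
theorem lt_card (x : Fin (p ^ j) × Fin p) : (x.1 : ℕ) + p ^ j * (x.2 : ℕ) < p ^ (j + 1) := by
  have h1 := x.1.2
  have h2 := x.2.2
  calc (x.1 : ℕ) + p ^ j * (x.2 : ℕ) < p ^ j + p ^ j * (x.2 : ℕ) := by omega
    _ = p ^ j * ((x.2 : ℕ) + 1) := by ring
    _ ≤ p ^ j * p := Nat.mul_le_mul_left _ h2
    _ = p ^ (j + 1) := (pow_succ _ _).symm

omit hp in
theorem rt_injective : Function.Injective (rt p j ζ) := by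
  intro x y h
  have h1 := hζ.pow_inj (lt_card hζ x) (lt_card hζ y) h
  have hx := x.1.2
  have hy := y.1.2
  have h2 : (x.1 : ℕ) = y.1 := by
    have h3 := congrArg (· % p ^ j) h1
    simp only [Nat.add_mul_mod_self_left] at h3
    rwa [Nat.mod_eq_of_lt hx, Nat.mod_eq_of_lt hy] at h3
  have h4 : (x.2 : ℕ) = y.2 := by
    rw [h2] at h1
    have h5 := Nat.add_left_cancel h1
    exact Nat.eq_of_mul_eq_mul_left (lt_of_le_of_lt (Nat.zero_le _) hx) h5
  exact Prod.ext (Fin.ext h2) (Fin.ext h4)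

theorem rt_pow_p (x : Fin (p ^ j) × Fin p) : rt p j ζ x ^ p = (ζ ^ p) ^ (x.1 : ℕ) := by
  have h1 : p ^ j * (x.2 : ℕ) * p = p ^ (j + 1) * (x.2 : ℕ) := by ring
  rw [rt, ← pow_mul, add_mul, pow_add, h1, pow_mul ζ (p ^ (j + 1)), hζ.pow_eq_one, one_pow,
    mul_one, mul_comm, pow_mul]

theorem rt_pow_p_eq_iff (x y : Fin (p ^ j) × Fin p) :
    rt p j ζ x ^ p = rt p j ζ y ^ p ↔ x.1 = y.1 := by
  rw [rt_pow_p hζ, rt_pow_p hζ]
  have h1 : IsPrimitiveRoot (ζ ^ p) (p ^ j) :=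
    hζ.pow (pow_pos hp.out.pos _) (by rw [pow_succ, mul_comm])
  refine ⟨fun h => Fin.ext (h1.pow_inj x.1.2 y.1.2 h), fun h => by rw [h]⟩

theorem exists_rt {z : ℂ} (hz : z ^ p ^ (j + 1) = 1) : ∃ x, rt p j ζ x = z := by
  have : NeZero (p ^ (j + 1)) := ⟨pow_ne_zero _ hp.out.ne_zero⟩
  obtain ⟨i, hi, rfl⟩ := hζ.eq_pow_of_pow_eq_one hz
  have hpj : 0 < p ^ j := pow_pos hp.out.pos _
  refine ⟨(⟨i % p ^ j, Nat.mod_lt _ hpj⟩, ⟨i / p ^ j, ?_⟩), ?_⟩
  · rw [Nat.div_lt_iff_lt_mul hpj, mul_comm, ← pow_succ]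
    exact hi
  · rw [rt]
    congr 1
    exact Nat.mod_add_div i (p ^ j)

theorem sum_rt (r : Fin (p ^ j)) : ∑ s : Fin p, rt p j ζ (r, s) = 0 := by
  have h1 : ∀ s : Fin p, rt p j ζ (r, s) = ζ ^ (r : ℕ) * (ζ ^ p ^ j) ^ (s : ℕ) := by
    intro s
    rw [rt, pow_add, pow_mul]
  simp only [h1]
  rw [← Finset.mul_sum, Fin.sum_univ_eq_sum_range (fun s => (ζ ^ p ^ j) ^ s)]
  have h2 : IsPrimitiveRoot (ζ ^ p ^ j) p :=
    hζ.pow (pow_pos hp.out.pos _) (by rw [pow_succ])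
  rw [h2.geom_sum_eq_zero hp.out.one_lt, mul_zero]

theorem norm_rt (x : Fin (p ^ j) × Fin p) : ‖rt p j ζ x‖ = 1 :=
  Complex.norm_eq_one_of_pow_eq_one (rt_pow hζ x) (pow_ne_zero _ hp.out.ne_zero)

theorem conj_rt (x : Fin (p ^ j) × Fin p) : conj (rt p j ζ x) = (rt p j ζ x)⁻¹ := by
  have h1 := norm_rt hζ x
  rw [Complex.inv_def, Complex.normSq_eq_norm_sq, h1]
  simp

/-- Orthogonality over the units. -/
theorem sum_units_rt (x y : Fin (p ^ j) × Fin p) :
    ∑ v : (ZMod (p ^ (j + 1)))ˣ, rt p j ζ x ^ (v : ZMod (p ^ (j + 1))).val *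
        conj (rt p j ζ y ^ (v : ZMod (p ^ (j + 1))).val) =
      (if x = y then ((p : ℂ) ^ (j + 1)) else 0) - if x.1 = y.1 then ((p : ℂ) ^ j) else 0 := by
  have hy0 : rt p j ζ y ≠ 0 := by
    intro h
    have := norm_rt hζ y
    rw [h, norm_zero] at this
    exact zero_ne_one this
  have h1 : ∀ k : ℕ, rt p j ζ x ^ k * conj (rt p j ζ y ^ k) =
      (rt p j ζ x * (rt p j ζ y)⁻¹) ^ k := by
    intro k
    rw [map_pow, conj_rt hζ, ← mul_pow]
  simp only [h1]
  rw [sum_units_pow (by rw [mul_pow, inv_pow, rt_pow hζ, rt_pow hζ, inv_one, mul_one])]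
  congr 1
  · refine if_congr ?_ rfl rfl
    rw [mul_inv_eq_one₀ hy0]
    exact (rt_injective hζ).eq_iff
  · refine if_congr ?_ rfl rfl
    rw [mul_pow, inv_pow, mul_inv_eq_one₀ (pow_ne_zero _ hy0)]
    exact rt_pow_p_eq_iff hζ x y

/-- The sum over the units of the squares. -/
theorem sum_units_sq (g : Fin (p ^ j) × Fin p → ℝ) :
    ∑ v : (ZMod (p ^ (j + 1)))ˣ, ‖∑ x, (g x : ℂ) * rt p j ζ x ^ (v : ZMod (p ^ (j + 1))).val‖ ^ 2 =
      (p : ℝ) ^ j / 2 * ∑ r, ∑ s, ∑ s', (g (r, s) - g (r, s')) ^ 2 := by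
  have h1 : ∀ z : ℂ, ((‖z‖ ^ 2 : ℝ) : ℂ) = z * conj z := fun z => by
    rw [Complex.mul_conj, Complex.normSq_eq_norm_sq]
  have h2 : ((∑ v : (ZMod (p ^ (j + 1)))ˣ,
      ‖∑ x, (g x : ℂ) * rt p j ζ x ^ (v : ZMod (p ^ (j + 1))).val‖ ^ 2 : ℝ) : ℂ) =
      ∑ x, ∑ y, (g x : ℂ) * (g y : ℂ) *
        ((if x = y then ((p : ℂ) ^ (j + 1)) else 0) - if x.1 = y.1 then ((p : ℂ) ^ j) else 0) := by
    rw [Complex.ofReal_sum]
    simp only [h1, map_sum, Finset.sum_mul_sum]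
    rw [Finset.sum_comm]
    refine Finset.sum_congr rfl fun x _ => ?_
    rw [Finset.sum_comm]
    refine Finset.sum_congr rfl fun y _ => ?_
    rw [← sum_units_rt hζ x y, Finset.mul_sum]
    refine Finset.sum_congr rfl fun v _ => ?_
    rw [map_mul, Complex.conj_ofReal]
    ring
  have h3 : ∑ x, ∑ y, (g x : ℂ) * (g y : ℂ) *
        ((if x = y then ((p : ℂ) ^ (j + 1)) else 0) - if x.1 = y.1 then ((p : ℂ) ^ j) else 0) =
      ((∑ x, ∑ y, g x * g y *
        ((if x = y then ((p : ℝ) ^ (j + 1)) else 0) - if x.1 = y.1 then ((p : ℝ) ^ j) else 0) :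
          ℝ) : ℂ) := by
    push_cast
    refine Finset.sum_congr rfl fun x _ => Finset.sum_congr rfl fun y _ => ?_
    split_ifs <;> push_cast <;> ring
  rw [h3] at h2
  have h4 := Complex.ofReal_injective h2
  rw [h4]
  -- real computation
  have h5 : ∀ x : Fin (p ^ j) × Fin p, ∑ y, g x * g y *
      ((if x = y then ((p : ℝ) ^ (j + 1)) else 0) - if x.1 = y.1 then ((p : ℝ) ^ j) else 0) =
      (p : ℝ) ^ (j + 1) * g x ^ 2 - (p : ℝ) ^ j * ∑ s', g x * g (x.1, s') := by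
    intro x
    simp only [mul_sub, Finset.sum_sub_distrib]
    congr 1
    · simp only [mul_ite, mul_zero]
      rw [Finset.sum_ite_eq Finset.univ x, if_pos (Finset.mem_univ _)]
      ring
    · rw [Fintype.sum_prod_type, Finset.sum_eq_single x.1]
      · rw [Finset.mul_sum]
        refine Finset.sum_congr rfl fun s' _ => ?_
        rw [if_pos rfl]
        ring
      · intro r _ hr
        refine Finset.sum_eq_zero fun s' _ => ?_
        rw [if_neg (fun h => hr h.symm), mul_zero]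
      · intro h
        exact absurd (Finset.mem_univ _) h
  rw [Finset.sum_congr rfl fun x _ => h5 x, Fintype.sum_prod_type, Finset.mul_sum]
  refine Finset.sum_congr rfl fun r _ => ?_
  have h6 : ∑ s, ∑ s', (g (r, s) - g (r, s')) ^ 2 =
      2 * p * ∑ s, g (r, s) ^ 2 - 2 * ∑ s, ∑ s', g (r, s) * g (r, s') := by
    have h7 : ∀ s s', (g (r, s) - g (r, s')) ^ 2 =
        g (r, s) ^ 2 + g (r, s') ^ 2 - 2 * (g (r, s) * g (r, s')) := fun s s' => by ring
    simp only [h7, Finset.sum_sub_distrib, Finset.sum_add_distrib, ← Finset.mul_sum,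
      Finset.sum_const, Finset.card_univ, Fintype.card_fin, nsmul_eq_mul]
    ring
  rw [h6, Finset.sum_sub_distrib, ← Finset.mul_sum, ← Finset.mul_sum, pow_succ]
  ring

end roots

/-- **The average.** -/
theorem avg_ge {p j : ℕ} [hp : Fact p.Prime] {X κ : Type*} [Fintype X] [Fintype κ]
    (T : X → κ → ℝ) (m : X → ℤ) (e : X → ℂ) (he : ∀ ξ, e ξ ^ p ^ (j + 1) = 1)
    (R : (X → ℤ) → Prop) (hRsub : ∀ c d, R c → R d → R (c - d))
    (h1 : ∀ c, ¬ R c → 1 ≤ ∑ i, (∑ ξ, (c ξ : ℝ) * T ξ i) ^ 2)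
    (D : X → ℤ) (hD : ∀ c, R c → ∑ ξ, c ξ * D ξ = 0)
    (hne : ∑ ξ, (m ξ : ℂ) * (D ξ : ℂ) * e ξ ≠ 0) :
    (Fintype.card (ZMod (p ^ (j + 1)))ˣ : ℝ) ≤ ∑ v : (ZMod (p ^ (j + 1)))ˣ,
      ∑ i, ‖∑ ξ, (m ξ : ℂ) * (T ξ i : ℂ) * e ξ ^ (v : ZMod (p ^ (j + 1))).val‖ ^ 2 := by
  classical
  have hp0 : 0 < p := hp.out.pos
  have hq0 : p ^ (j + 1) ≠ 0 := pow_ne_zero _ hp0.ne'
  have hζ : IsPrimitiveRoot (Complex.exp (2 * Real.pi * Complex.I / ((p ^ (j + 1) : ℕ) : ℂ)))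
      (p ^ (j + 1)) := Complex.isPrimitiveRoot_exp _ hq0
  set ζ := Complex.exp (2 * Real.pi * Complex.I / ((p ^ (j + 1) : ℕ) : ℂ)) with hζdef
  choose x hx using fun ξ => exists_rt hζ (he ξ)
  -- the parts
  let c : Fin (p ^ j) × Fin p → X → ℤ := fun y ξ => if x ξ = y then m ξ else 0
  let g : κ → Fin (p ^ j) × Fin p → ℝ := fun i y => ∑ ξ, (c y ξ : ℝ) * T ξ i
  have hgroup : ∀ (f : X → ℂ), ∑ ξ, (m ξ : ℂ) * f ξ = ∑ y, ∑ ξ, (c y ξ : ℂ) * f ξ := by
    intro f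
    rw [Finset.sum_comm]
    refine Finset.sum_congr rfl fun ξ _ => ?_
    rw [Finset.sum_eq_single (x ξ)]
    · simp only [c, if_pos]
    · intro y _ hy
      simp only [c, if_neg (fun h : x ξ = y => hy h.symm), Int.cast_zero, zero_mul]
    · intro h
      exact absurd (Finset.mem_univ _) h
  have hpart : ∀ (y : Fin (p ^ j) × Fin p) (f : X → ℂ) (k : ℕ),
      ∑ ξ, (c y ξ : ℂ) * (f ξ * e ξ ^ k) = (∑ ξ, (c y ξ : ℂ) * f ξ) * rt p j ζ y ^ k := by
    intro y f k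
    rw [Finset.sum_mul]
    refine Finset.sum_congr rfl fun ξ _ => ?_
    by_cases h : x ξ = y
    · rw [← hx ξ, h]
      ring
    · simp only [c, if_neg h, Int.cast_zero, zero_mul]
  -- the sum
  have hsum : ∀ (i : κ), ∑ v : (ZMod (p ^ (j + 1)))ˣ,
      ‖∑ ξ, (m ξ : ℂ) * (T ξ i : ℂ) * e ξ ^ (v : ZMod (p ^ (j + 1))).val‖ ^ 2 =
      (p : ℝ) ^ j / 2 * ∑ r, ∑ s, ∑ s', (g i (r, s) - g i (r, s')) ^ 2 := by
    intro i
    rw [← sum_units_sq hζ (g i)]
    refine Finset.sum_congr rfl fun v _ => ?_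
    congr 2
    have h2 := hgroup (fun ξ => (T ξ i : ℂ) * e ξ ^ (v : ZMod (p ^ (j + 1))).val)
    simp only [← mul_assoc] at h2
    rw [h2]
    refine Finset.sum_congr rfl fun y _ => ?_
    have h3 := hpart y (fun ξ => (T ξ i : ℂ)) (v : ZMod (p ^ (j + 1))).val
    simp only [← mul_assoc] at h3
    rw [h3]
    congr 1
    simp only [g]
    push_cast
    rfl
  rw [Finset.sum_comm, Finset.sum_congr rfl fun i _ => hsum i, ← Finset.mul_sum]
  -- an inequivalent pair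
  obtain ⟨r₀, s₀, s₁, hrs⟩ : ∃ r s s', ¬ R (c (r, s) - c (r, s')) := by
    by_contra hcon
    push Not at hcon
    apply hne
    have h2 : ∀ r s s', ∑ ξ, c (r, s) ξ * D ξ = ∑ ξ, c (r, s') ξ * D ξ := by
      intro r s s'
      have h3 := hD _ (hcon r s s')
      simp only [Pi.sub_apply, sub_mul, Finset.sum_sub_distrib] at h3
      exact sub_eq_zero.1 h3
    have h3 := hgroup (fun ξ => (D ξ : ℂ) * e ξ)
    simp only [← mul_assoc] at h3
    rw [h3]
    have h4 : ∀ y, ∑ ξ, (c y ξ : ℂ) * (D ξ : ℂ) * e ξ =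
        ((∑ ξ, c y ξ * D ξ : ℤ) : ℂ) * rt p j ζ y := by
      intro y
      have h5 := hpart y (fun ξ => (D ξ : ℂ)) 1
      simp only [pow_one, ← mul_assoc] at h5
      rw [h5]
      push_cast
      rfl
    rw [Finset.sum_congr rfl fun y _ => h4 y, Fintype.sum_prod_type]
    refine Finset.sum_eq_zero fun r _ => ?_
    have h5 : ∀ s : Fin p, ((∑ ξ, c (r, s) ξ * D ξ : ℤ) : ℂ) * rt p j ζ (r, s) =
        ((∑ ξ, c (r, ⟨0, hp0⟩) ξ * D ξ : ℤ) : ℂ) * rt p j ζ (r, s) := by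
      intro s
      rw [h2 r s ⟨0, hp0⟩]
    rw [Finset.sum_congr rfl fun s _ => h5 s, ← Finset.mul_sum, sum_rt hζ, mul_zero]
  -- norms of differences
  let N : Fin p → Fin p → ℝ := fun s s' => ∑ i, (g i (r₀, s) - g i (r₀, s')) ^ 2
  have hN0 : ∀ s s', 0 ≤ N s s' := fun s s' => Finset.sum_nonneg fun i _ => sq_nonneg _
  have hN1 : ∀ s s', ¬ R (c (r₀, s) - c (r₀, s')) → 1 ≤ N s s' := by
    intro s s' h
    have h2 := h1 _ h
    refine h2.trans (le_of_eq ?_)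
    refine Finset.sum_congr rfl fun i _ => ?_
    congr 1
    simp only [g, Pi.sub_apply]
    rw [← Finset.sum_sub_distrib]
    refine Finset.sum_congr rfl fun ξ _ => ?_
    push_cast
    ring
  have hNs : ∀ s s', N s s' = N s' s := fun s s' =>
    Finset.sum_congr rfl fun i _ => by ring
  have h01 : s₀ ≠ s₁ := by
    rintro rfl
    apply hrs
    rw [sub_self]
    by_contra h0
    have h2 := h1 _ h0
    simp at h2
    linarith
  have hneg : ∀ d, R d → R (-d) := by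
    intro d hd
    have h2 := hRsub _ _ (hRsub _ _ hd hd) hd
    rwa [sub_self, zero_sub] at h2
  have hpair : ∀ s, 1 ≤ N s s₀ + N s s₁ := by
    intro s
    by_cases h2 : R (c (r₀, s) - c (r₀, s₀))
    · have h3 : ¬ R (c (r₀, s) - c (r₀, s₁)) := by
        intro h3
        apply hrs
        have h4 := hRsub _ _ h3 h2
        rwa [sub_sub_sub_cancel_left] at h4
      linarith [hN1 s s₁ h3, hN0 s s₀]
    · linarith [hN1 s s₀ h2, hN0 s s₁]
  have hmain : 2 * ((p : ℝ) - 1) ≤ ∑ s, ∑ s', N s s' := by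
    -- rows
    have hrow : ∀ s, N s s₀ + N s s₁ ≤ ∑ s', N s s' := by
      intro s
      rw [← Finset.sum_pair (f := fun s' => N s s') h01]
      exact Finset.sum_le_sum_of_subset_of_nonneg (Finset.subset_univ _) fun _ _ _ => hN0 _ _
    have hcard : ((Finset.univ.erase s₀).erase s₁ : Finset (Fin p)).card = p - 2 := by
      rw [Finset.card_erase_of_mem (Finset.mem_erase.2 ⟨h01.symm, Finset.mem_univ _⟩),
        Finset.card_erase_of_mem (Finset.mem_univ _), Finset.card_univ, Fintype.card_fin]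
      omega
    have hp2 : 2 ≤ p := hp.out.two_le
    set U : Finset (Fin p) := (Finset.univ.erase s₀).erase s₁ with hU
    have hsplit : ∀ f : Fin p → ℝ, ∑ s, f s = f s₀ + (f s₁ + ∑ s ∈ U, f s) := by
      intro f
      rw [Finset.add_sum_erase _ f (Finset.mem_erase.2 ⟨h01.symm, Finset.mem_univ _⟩),
        Finset.add_sum_erase _ f (Finset.mem_univ _)]
    have hcU : (U.card : ℝ) = p - 2 := by
      rw [hcard, Nat.cast_sub hp2]
      norm_num
    have a1 : (U.card : ℝ) ≤ ∑ s ∈ U, ∑ s', N s s' := by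
      rw [← nsmul_one, ← Finset.sum_const]
      exact Finset.sum_le_sum fun s _ => (hpair s).trans (hrow s)
    have a2 : (U.card : ℝ) ≤ ∑ s ∈ U, (N s₀ s + N s₁ s) := by
      rw [← nsmul_one, ← Finset.sum_const]
      refine Finset.sum_le_sum fun s _ => ?_
      rw [hNs s₀ s, hNs s₁ s]
      exact hpair s
    rw [Finset.sum_add_distrib] at a2
    have a3 : ∑ s', N s₀ s' = N s₀ s₀ + (N s₀ s₁ + ∑ s ∈ U, N s₀ s) := hsplit _
    have a4 : ∑ s', N s₁ s' = N s₁ s₀ + (N s₁ s₁ + ∑ s ∈ U, N s₁ s) := hsplit _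
    have a5 := hN1 s₀ s₁ hrs
    have a6 : 1 ≤ N s₁ s₀ := by rw [hNs]; exact a5
    have a7 := hN0 s₀ s₀
    have a8 := hN0 s₁ s₁
    rw [hsplit (fun s => ∑ s', N s s')]
    rw [a3, a4]
    linarith
  have htot : ∑ s, ∑ s', N s s' ≤ ∑ i, ∑ r, ∑ s, ∑ s', (g i (r, s) - g i (r, s')) ^ 2 := by
    have h2 : ∑ s, ∑ s', N s s' = ∑ i, ∑ s, ∑ s', (g i (r₀, s) - g i (r₀, s')) ^ 2 := by
      simp only [N]
      rw [Finset.sum_comm]
      rw [Finset.sum_comm]
      calc ∑ s, ∑ s', ∑ i, (g i (r₀, s) - g i (r₀, s')) ^ 2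
          = ∑ s, ∑ i, ∑ s', (g i (r₀, s) - g i (r₀, s')) ^ 2 :=
            Finset.sum_congr rfl fun s _ => Finset.sum_comm
        _ = ∑ i, ∑ s, ∑ s', (g i (r₀, s) - g i (r₀, s')) ^ 2 := Finset.sum_comm
    rw [h2]
    refine Finset.sum_le_sum fun i _ => ?_
    exact Finset.single_le_sum (f := fun r => ∑ s, ∑ s', (g i (r, s) - g i (r, s')) ^ 2)
      (fun r _ => Finset.sum_nonneg fun s _ => Finset.sum_nonneg fun s' _ => sq_nonneg _)
      (Finset.mem_univ r₀)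
  have hcardU : (Fintype.card (ZMod (p ^ (j + 1)))ˣ : ℝ) = (p : ℝ) ^ j * (p - 1) := by
    rw [ZMod.card_units_eq_totient, Nat.totient_prime_pow_succ hp.out]
    push_cast [Nat.cast_sub hp.out.one_le]
    ring
  rw [hcardU]
  have hpj : (0 : ℝ) ≤ (p : ℝ) ^ j / 2 := by positivity
  calc (p : ℝ) ^ j * (p - 1) = (p : ℝ) ^ j / 2 * (2 * (p - 1)) := by ring
    _ ≤ (p : ℝ) ^ j / 2 * ∑ s, ∑ s', N s s' := mul_le_mul_of_nonneg_left hmain hpj
    _ ≤ _ := mul_le_mul_of_nonneg_left htot hpj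

end Cfsg.Agent.H616.FormAvg
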