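import Mathlib
import Cfsg.Agent.H616.FormBd
import Cfsg.Agent.H616.FormAvg
import Cfsg.Agent.H616.MajorTwo

/-!
# The bound `k(B) ≤ n` from a positive form of trace at most `n`

`card_le_of_formBd`: if `(u, b)` is a major subsection of `B` and `FormBd p b n` then `k(B) ≤ n`.
-/

set_option autoImplicit false
set_option linter.unusedSectionVars false

open Cfsg Matrix
open scoped ComplexConjugate

namespace Cfsg.Agent.H616.Form

open Cfsg.Agent.Blocks.Blau Cfsg.Agent.Blocks.Local Cfsg.Agent.Characters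
open Cfsg.Agent.H613 Cfsg.Agent.H613.RegGram Cfsg.Agent.H613.Contrib
  Cfsg.Agent.H613.ContribVal
open Cfsg.Agent.H616

section sub

variable {G : Type*} [Group G] [Fintype G] {p : ℕ} [Fact p.Prime] {M : Ideal AlgInt}
variable {u : G} {H : Subgroup G} [Fintype H] [Fintype (IrrCharacter H)] {j : ℕ}
  {m : IrrCharacter G → IrrCharacter H → ℕ} {e : IrrCharacter H → ℂ}
  {b : Set (IrrCharacter H)} [Fintype b] {P : Matrix b b ℤ} [DecidableEq b]
  {B : Set (IrrCharacter G)} [Fintype B]
  {l : ℕ} {D : Matrix b (Fin l) ℤ} {E : Matrix (Fin l) b ℤ} {A : Matrix (Fin l) (Fin l) ℤ}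

/-- The counting argument. -/
theorem card_le_of_isForm (h : SubData p M u H (p ^ (j + 1)) m e b P B D E A)
    (hd : blockDefect p b = blockDefect p B) {n : ℕ} {κ : Type*} [Fintype κ] {T : b → κ → ℝ}
    (hT : IsForm p b n T) : (Fintype.card B : ℝ) ≤ n := by
  have hp0 : p ^ (j + 1) ≠ 0 := pow_ne_zero _ h.mod.1.ne_zero
  have hnz : NeZero (p ^ (j + 1)) := ⟨hp0⟩
  -- coordinates of `T`
  let S : Fin l → κ → ℝ := fun i x => ∑ η, (E i η : ℝ) * T η x
  have hTS : ∀ ξ x, T ξ x = ∑ i, (D ξ i : ℝ) * S i x := by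
    intro ξ x
    have h1 : Rel p b (fun η => (if η = ξ then 1 else 0) - ∑ i, D ξ i * E i η) := by
      rw [rel_iff h.mod h.ind.1 h.gram h.fac]
      intro k
      simp only [sub_mul, Finset.sum_sub_distrib, ite_mul, one_mul, zero_mul]
      rw [Finset.sum_ite_eq' Finset.univ ξ, if_pos (Finset.mem_univ _)]
      have h2 : ∑ η, (∑ i, D ξ i * E i η) * D η k = ∑ i, D ξ i * (E * D) i k := by
        simp only [Finset.sum_mul, Matrix.mul_apply, Finset.mul_sum]
        rw [Finset.sum_comm]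
        exact Finset.sum_congr rfl fun i _ => Finset.sum_congr rfl fun η _ => by ring
      rw [h2, h.fac.left_inv]
      simp [Matrix.one_apply]
    have h2 := hT.zero _ h1 x
    push_cast at h2
    simp only [sub_mul, Finset.sum_sub_distrib, ite_mul, one_mul, zero_mul] at h2
    rw [Finset.sum_ite_eq' Finset.univ ξ, if_pos (Finset.mem_univ _), sub_eq_zero] at h2
    rw [h2]
    simp only [S, Finset.mul_sum, Finset.sum_mul]
    rw [Finset.sum_comm]
    exact Finset.sum_congr rfl fun i _ => Finset.sum_congr rfl fun η _ => by ring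
  -- the vectors attached to the characters
  let F : B → (ZMod (p ^ (j + 1)))ˣ → κ → ℂ := fun ψ v x =>
    ∑ ξ : b, ((m ψ ξ : ℤ) : ℂ) * (T ξ x : ℂ) * e ξ ^ (v : ZMod (p ^ (j + 1))).val
  have hF : ∀ ψ v x, F ψ v x = ∑ i, (S i x : ℂ) *
      gd m e (fun ξ => D ξ i) ψ (v : ZMod (p ^ (j + 1))).val := by
    intro ψ v x
    simp only [F, gd_def, Finset.mul_sum]
    rw [Finset.sum_comm]
    refine Finset.sum_congr rfl fun ξ _ => ?_
    rw [hTS ξ x]
    push_cast
    rw [Finset.mul_sum, Finset.sum_mul]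
    exact Finset.sum_congr rfl fun i _ => by ring
  have hsum : ∀ v, ∑ ψ, ∑ x, ‖F ψ v x‖ ^ 2 = ∑ ξ, ∑ x, T ξ x ^ 2 := by
    intro v
    rw [Finset.sum_comm, Finset.sum_comm (s := (Finset.univ : Finset b)) (t := Finset.univ)
      (f := fun ξ x => T ξ x ^ 2)]
    refine Finset.sum_congr rfl fun x _ => ?_
    have h1 : ((∑ ψ, ‖F ψ v x‖ ^ 2 : ℝ) : ℂ) = ((∑ ξ, T ξ x ^ 2 : ℝ) : ℂ) := by
      push_cast
      have h2 : ∀ ψ, ((‖F ψ v x‖ : ℝ) : ℂ) ^ 2 = ∑ i, ∑ k, (S i x : ℂ) * (S k x : ℂ) *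
          (gd m e (fun ξ => D ξ i) ψ (v : ZMod (p ^ (j + 1))).val *
            conj (gd m e (fun ξ => D ξ k) ψ (v : ZMod (p ^ (j + 1))).val)) := by
        intro ψ
        have h3 : ((‖F ψ v x‖ : ℝ) : ℂ) ^ 2 = F ψ v x * conj (F ψ v x) := by
          rw [Complex.mul_conj, Complex.normSq_eq_norm_sq]
          push_cast
          rfl
        rw [h3, hF, map_sum, Finset.sum_mul_sum]
        refine Finset.sum_congr rfl fun i _ => Finset.sum_congr rfl fun k _ => ?_
        rw [map_mul, Complex.conj_ofReal]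
        ring
      rw [Finset.sum_congr rfl fun ψ _ => h2 ψ, Finset.sum_comm]
      have h4 : ∀ i, ∑ ψ : B, ∑ k, (S i x : ℂ) * (S k x : ℂ) *
          (gd m e (fun ξ => D ξ i) ψ (v : ZMod (p ^ (j + 1))).val *
            conj (gd m e (fun ξ => D ξ k) ψ (v : ZMod (p ^ (j + 1))).val)) =
          ∑ k, (S i x : ℂ) * (S k x : ℂ) * ∑ η : b, (D η i : ℂ) * (D η k : ℂ) := by
        intro i
        rw [Finset.sum_comm]
        refine Finset.sum_congr rfl fun k _ => ?_
        rw [← Finset.mul_sum, h.orth (ZMod.val_coe_unit_coprime v) i k]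
      rw [Finset.sum_congr rfl fun i _ => h4 i]
      have h5 : ∀ ξ, ((T ξ x : ℝ) : ℂ) ^ 2 = ∑ i, ∑ k, (S i x : ℂ) * (S k x : ℂ) *
          ((D ξ i : ℂ) * (D ξ k : ℂ)) := by
        intro ξ
        rw [hTS ξ x, sq]
        push_cast
        rw [Finset.sum_mul_sum]
        exact Finset.sum_congr rfl fun i _ => Finset.sum_congr rfl fun k _ => by ring
      rw [Finset.sum_congr rfl fun ξ _ => h5 ξ]
      conv_rhs => rw [Finset.sum_comm]
      refine Finset.sum_congr rfl fun i _ => ?_
      conv_rhs => rw [Finset.sum_comm]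
      refine Finset.sum_congr rfl fun k _ => ?_
      rw [← Finset.mul_sum]
    exact_mod_cast h1
  have key := card_le_of_avg (Finset.univ : Finset B) (ι := (ZMod (p ^ (j + 1)))ˣ) (r := 1)
    (t := ∑ ξ, ∑ x, T ξ x ^ 2) (fun ψ v => ∑ x, ‖F ψ v x‖ ^ 2)
    (fun _ _ => Finset.sum_nonneg fun _ _ => by positivity)
    (fun ψ _ => by
      rw [one_mul]
      obtain ⟨i, hi⟩ := h.exists_ne_zero hd ψ.2
      refine FormAvg.avg_ge T (fun ξ : b => (m ψ ξ : ℤ)) (fun ξ : b => e ξ)
        (fun ξ => h.exp.root ξ) (Rel p b) ?_ hT.one_le (fun ξ => D ξ i) ?_ ?_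
      · intro c d hc hd
        have h2 := hc.add (hd.smul (-1))
        have h3 : c - d = c + fun ψ => -1 * d ψ := by
          ext ψ
          simp only [Pi.sub_apply, Pi.add_apply]
          ring
        rw [h3]
        exact h2
      · intro c hc
        exact (rel_iff h.mod h.ind.1 h.gram h.fac c).1 hc i
      · rw [gd_def] at hi
        simp only [pow_one] at hi
        intro h0
        apply hi
        rw [← h0]
        exact Finset.sum_congr rfl fun ξ _ => by push_cast; ring)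
    hsum
  rw [one_mul, Finset.card_univ] at key
  exact key.trans hT.sum_le

end sub

/-- **The form bound** for major subsections. -/
theorem card_le_of_formBd {G : Type*} [Group G] [Finite G] {p : ℕ} [Fact p.Prime]
    {M : Ideal AlgInt} (hM : IsPModular p M) {u : G} (hu : ∃ k : ℕ, orderOf u = p ^ k)
    {H : Subgroup G} (hH : H = Subgroup.centralizer ({u} : Set G)) {b : Set (IrrCharacter H)}
    {B : Set (IrrCharacter G)} (hind : IsInducedBlock M H b B)
    (hd : blockDefect p b = blockDefect p B) {n : ℕ} (hF : FormBd p b n) : Nat.card B ≤ n := by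
  classical
  have := Fintype.ofFinite G
  have := Fintype.ofFinite H
  have : Finite (IrrCharacter H) := Core.finite_irr
  have := Fintype.ofFinite (IrrCharacter H)
  have : Finite (IrrCharacter G) := Core.finite_irr
  have := Fintype.ofFinite (IrrCharacter G)
  have := Fintype.ofFinite b
  have := Fintype.ofFinite B
  obtain ⟨j, hj⟩ := hu
  have huq : u ^ p ^ (j + 1) = 1 := by
    rw [← orderOf_dvd_iff_pow_eq_one, hj]
    exact pow_dvd_pow p (Nat.le_succ j)
  obtain ⟨m, e, hE⟩ := exists_exp hH huq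
  obtain ⟨P, D, E, A, hP, hFac⟩ := exists_factor_block hM hind.1
  obtain ⟨N, T, hT⟩ := hF.exists
  have hS : SubData p M u H (p ^ (j + 1)) m e b P B D E A :=
    ⟨hM, ⟨j, hj⟩, hH, huq, hE, hind, hP, by convert hFac⟩
  rw [Nat.card_eq_fintype_card]
  exact_mod_cast card_le_of_isForm hS hd hT

end Cfsg.Agent.H616.Form
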