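import Cfsg.Agent.H616.ExtNum

/-!
# Arithmetic of the orders of `PSL_n(q)` and `PSU_n(q)` for `Ext p G` (helper616, for S2215)
-/

set_option autoImplicit false

namespace Cfsg.Agent.H616.ExtLU

open Cfsg.Agent.H92.ExtP Cfsg.Agent.H616.ExtNum

universe u

variable {p : ℕ} [Fact p.Prime] {G : Type u} [Group G]

/-- `p` divides `q` -/
theorem char_case (h : Ext p G) {n q s : ℕ} {g : ℕ → ℕ} (hn : 3 ≤ n)
    (hM : Nat.gcd n s * Nat.card G = q ^ (n * (n - 1) / 2) * ∏ i ∈ Finset.range (n - 1), g (i + 2))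
    (hpq : p ∣ q) (hps : ¬ p ∣ s) : n = 3 ∧ ¬ p ^ 2 ∣ q := by
  have hd : ¬ p ∣ Nat.gcd n s := not_pow_dvd_of_dvd (Nat.gcd_dvd_right _ _) hps
  have hn3 : n = 3 := by
    by_contra h3
    have h4 : 4 ≤ n := by omega
    have h5 : 4 ≤ n * (n - 1) / 2 := by
      rw [Nat.le_div_iff_mul_le (by norm_num)]
      have h6 : 4 * 3 ≤ n * (n - 1) := Nat.mul_le_mul h4 (by omega)
      omega
    exact ext_false_of_dvd h hM hpq h5 (Dvd.intro _ rfl) hd
  refine ⟨hn3, fun h2 => ?_⟩
  subst hn3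
  refine ext_false h (c := 0) hM ?_ (by simpa using hd)
  refine Dvd.dvd.mul_right ?_ _
  have h6 : (p ^ 2) ^ 3 ∣ q ^ 3 := pow_dvd_pow_of_dvd h2 3
  rw [← pow_mul] at h6
  exact (pow_dvd_pow p (by norm_num)).trans h6

/-- the prime `2` -/
theorem two_case {G : Type u} [Group G] (h : Ext 2 G) {n q s : ℕ} {g : ℕ → ℕ} (hn : 3 ≤ n)
    (hM : Nat.gcd n s * Nat.card G = q ^ (n * (n - 1) / 2) * ∏ i ∈ Finset.range (n - 1), g (i + 2))
    (hs0 : s ≠ 0) (g2 : 2 * s ∣ g 2) (g2' : 8 ∣ g 2) (g3 : 2 ∣ g 3) (g4 : 16 ∣ g 4) : False := by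
  rcases Nat.lt_or_ge n 4 with h4 | h4
  · have hn3 : n = 3 := by omega
    subst hn3
    refine ext_false h (c := 0) hM ?_ ?_
    · refine Dvd.dvd.mul_left ?_ _
      rw [show 3 - 1 = 2 from rfl, Finset.prod_range_succ, Finset.prod_range_succ, Finset.prod_range_zero, one_mul,
        show (2 : ℕ) ^ (0 + 4) = 8 * 2 by norm_num]
      exact mul_dvd_mul g2' g3
    · exact not_pow_dvd_of_dvd (Nat.gcd_dvd_left _ _) (by norm_num)
  · set a := s.factorization 2 with ha
    have h1 : 2 ^ a ∣ s := Nat.ordProj_dvd s 2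
    refine ext_false h (c := a) hM ?_ ?_
    · refine Dvd.dvd.mul_left ?_ _
      refine dvd_trans ?_ (Finset.prod_dvd_prod_of_subset (Finset.range 3) _ _
        (Finset.range_subset_range.2 (by omega)))
      rw [Finset.prod_range_succ, Finset.prod_range_succ, Finset.prod_range_succ, Finset.prod_range_zero, one_mul]
      have h2 : 2 ^ (a + 6) = 2 * 2 ^ a * 2 * 16 := by ring
      refine (pow_dvd_pow 2 (by omega : a + 4 ≤ a + 6)).trans ?_
      rw [h2]
      exact mul_dvd_mul (mul_dvd_mul ((mul_dvd_mul_left 2 h1).trans g2) g3) g4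
    · refine not_pow_dvd_of_dvd (Nat.gcd_dvd_right _ _) ?_
      exact Nat.pow_succ_factorization_not_dvd hs0 Nat.prime_two

/-- the bound `n ≤ 4` -/
theorem le_four (h : Ext p G) {n q s : ℕ} {g : ℕ → ℕ}
    (hM : Nat.gcd n s * Nat.card G = q ^ (n * (n - 1) / 2) * ∏ i ∈ Finset.range (n - 1), g (i + 2))
    (hs0 : s ≠ 0) (hps : p ∣ s) (hg : ∀ k, 2 ≤ k → s ∣ g k) (g5 : 5 ∣ s → 5 * s ∣ g 5) : n ≤ 4 := by
  have hp : p.Prime := Fact.out
  by_contra hn
  set a := s.factorization p with ha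
  have h1 : p ^ a ∣ s := Nat.ordProj_dvd s p
  have ha1 : 1 ≤ a := (hp.dvd_iff_one_le_factorization hs0).1 hps
  rcases Nat.lt_or_ge n 6 with h6 | h6
  · have hn5 : n = 5 := by omega
    subst hn5
    by_cases hp5 : p = 5
    · subst hp5
      refine ext_false h (c := 1) hM ?_ ?_
      · refine Dvd.dvd.mul_left ?_ _
        rw [show 5 - 1 = 4 from rfl, Finset.prod_range_succ, Finset.prod_range_succ, Finset.prod_range_succ,
          Finset.prod_range_succ, Finset.prod_range_zero, one_mul]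
        have h2 : 5 ^ (4 * a + 1) = 5 ^ a * 5 ^ a * 5 ^ a * (5 * 5 ^ a) := by ring
        refine (pow_dvd_pow 5 (by omega : 1 + 4 ≤ 4 * a + 1)).trans ?_
        rw [h2]
        refine mul_dvd_mul (mul_dvd_mul (mul_dvd_mul ?_ ?_) ?_) ?_
        · exact h1.trans (hg _ (by norm_num))
        · exact h1.trans (hg _ (by norm_num))
        · exact h1.trans (hg _ (by norm_num))
        · exact (mul_dvd_mul_left 5 h1).trans (g5 hps)
      · exact not_pow_dvd_of_dvd (Nat.gcd_dvd_left _ _) (by norm_num)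
    · refine ext_false h (c := 0) hM ?_ ?_
      · refine Dvd.dvd.mul_left ?_ _
        rw [show 5 - 1 = 4 from rfl, Finset.prod_range_succ, Finset.prod_range_succ, Finset.prod_range_succ,
          Finset.prod_range_succ, Finset.prod_range_zero, one_mul]
        have h2 : p ^ (4 * a) = p ^ a * p ^ a * p ^ a * p ^ a := by ring
        refine (pow_dvd_pow p (by omega : 0 + 4 ≤ 4 * a)).trans ?_
        rw [h2]
        refine mul_dvd_mul (mul_dvd_mul (mul_dvd_mul ?_ ?_) ?_) ?_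
        all_goals exact h1.trans (hg _ (by norm_num))
      · refine not_pow_dvd_of_dvd (Nat.gcd_dvd_left _ _) ?_
        intro h5
        rw [zero_add, pow_one] at h5
        rcases (Nat.dvd_prime Nat.prime_five).1 h5 with h7 | h7
        · exact hp.one_lt.ne' h7
        · exact hp5 h7
  · refine ext_false h (c := a) hM ?_ ?_
    · refine Dvd.dvd.mul_left ?_ _
      refine dvd_trans ?_ (Finset.prod_dvd_prod_of_subset (Finset.range 5) _ _
        (Finset.range_subset_range.2 (by omega)))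
      rw [Finset.prod_range_succ, Finset.prod_range_succ, Finset.prod_range_succ, Finset.prod_range_succ,
        Finset.prod_range_succ, Finset.prod_range_zero, one_mul]
      have h2 : p ^ (5 * a) = p ^ a * p ^ a * p ^ a * p ^ a * p ^ a := by ring
      refine (pow_dvd_pow p (by omega : a + 4 ≤ 5 * a)).trans ?_
      rw [h2]
      refine mul_dvd_mul (mul_dvd_mul (mul_dvd_mul (mul_dvd_mul ?_ ?_) ?_) ?_) ?_
      all_goals exact h1.trans (hg _ (by norm_num))
    · refine not_pow_dvd_of_dvd (Nat.gcd_dvd_right _ _) ?_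
      exact Nat.pow_succ_factorization_not_dvd hs0 hp

/-- the prime `3` -/
theorem three_case {G : Type u} [Group G] [Fact (Nat.Prime 3)] (h : Ext 3 G) {n q s t : ℕ} {g : ℕ → ℕ}
    (hn : 3 ≤ n) (hn4 : n ≤ 4)
    (hM : Nat.gcd n s * Nat.card G = q ^ (n * (n - 1) / 2) * ∏ i ∈ Finset.range (n - 1), g (i + 2))
    (hs0 : s ≠ 0) (hps : 3 ∣ s) (hq : ¬ 3 ∣ q) (g2 : g 2 = s * t) (ht : ¬ 3 ∣ t) (g30 : g 3 ≠ 0)
    (g3 : (g 3).factorization 3 = s.factorization 3 + 1) (g4 : s ∣ g 4) : False := by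
  have hp : Nat.Prime 3 := Fact.out
  set a := s.factorization 3 with ha
  have h1 : 3 ^ a ∣ s := Nat.ordProj_dvd s 3
  have ha1 : 1 ≤ a := (hp.dvd_iff_one_le_factorization hs0).1 hps
  have ht0 : t ≠ 0 := fun h0 => ht (h0 ▸ dvd_zero _)
  have hq0 : q ≠ 0 := fun h0 => hq (h0 ▸ dvd_zero _)
  rcases Nat.lt_or_ge n 4 with h4 | h4
  · have hn3 : n = 3 := by omega
    subst hn3
    rw [show 3 - 1 = 2 from rfl, Finset.prod_range_succ, Finset.prod_range_succ, Finset.prod_range_zero, one_mul,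
      g2, Nat.gcd_eq_left hps] at hM
    change 3 * Nat.card G = q ^ 3 * (s * t * g 3) at hM
    have h5 := congrArg (fun z => z.factorization 3) hM
    rw [Nat.factorization_mul (by norm_num) (ext_ne_zero h), Nat.factorization_mul (pow_ne_zero _ hq0)
      (mul_ne_zero (mul_ne_zero hs0 ht0) g30), Nat.factorization_mul (mul_ne_zero hs0 ht0) g30,
      Nat.factorization_mul hs0 ht0, Nat.factorization_pow] at h5
    simp only [Finsupp.add_apply, Finsupp.smul_apply, smul_eq_mul] at h5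
    rw [ext_fact h, g3, Nat.factorization_eq_zero_of_not_dvd hq, Nat.factorization_eq_zero_of_not_dvd ht,
      hp.factorization_self] at h5
    omega
  · have hn' : n = 4 := by omega
    subst hn'
    refine ext_false h (c := 0) hM ?_ ?_
    · refine Dvd.dvd.mul_left ?_ _
      rw [show 4 - 1 = 3 from rfl, Finset.prod_range_succ, Finset.prod_range_succ, Finset.prod_range_succ,
        Finset.prod_range_zero, one_mul]
      have h2 : 3 ^ (3 * a + 1) = 3 ^ a * 3 ^ (a + 1) * 3 ^ a := by ring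
      refine (pow_dvd_pow 3 (by omega : 0 + 4 ≤ 3 * a + 1)).trans ?_
      rw [h2]
      refine mul_dvd_mul (mul_dvd_mul ?_ ?_) ?_
      · change 3 ^ a ∣ g 2
        rw [g2]
        exact h1.mul_right _
      · change 3 ^ (a + 1) ∣ g 3
        rw [hp.pow_dvd_iff_le_factorization g30, g3]
      · exact h1.trans g4
    · exact not_pow_dvd_of_dvd (Nat.gcd_dvd_left _ _) (by norm_num)

/-! ### linear groups -/

theorem prod_gl (n q : ℕ) (hn : 1 ≤ n) : ∏ i : Fin n, (q ^ n - q ^ (i : ℕ)) =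
    (q - 1) * (q ^ (n * (n - 1) / 2) * ∏ i ∈ Finset.range (n - 1), (q ^ (i + 2) - 1)) := by
  rw [Fin.prod_univ_eq_prod_range (fun i => q ^ n - q ^ i) n]
  have h1 : ∏ i ∈ Finset.range n, (q ^ n - q ^ i) = (∏ i ∈ Finset.range n, q ^ i) * ∏ i ∈ Finset.range n, (q ^ (n - i) - 1) := by
    rw [← Finset.prod_mul_distrib]
    refine Finset.prod_congr rfl fun i hi => ?_
    have hi' := Finset.mem_range.1 hi
    rw [Nat.mul_sub, mul_one, ← pow_add, Nat.add_sub_cancel' hi'.le]
  have h2 : ∏ i ∈ Finset.range n, (q ^ (n - i) - 1) = ∏ i ∈ Finset.range n, (q ^ (i + 1) - 1) := by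
    rw [← Finset.prod_range_reflect]
    refine Finset.prod_congr rfl fun i hi => ?_
    have hi' := Finset.mem_range.1 hi
    congr 2
    omega
  have h3 : ∏ i ∈ Finset.range n, q ^ i = q ^ (n * (n - 1) / 2) := by
    rw [Finset.prod_pow_eq_pow_sum, Finset.sum_range_id]
  rw [h1, h2, h3]
  obtain ⟨k, rfl⟩ : ∃ k, n = k + 1 := ⟨n - 1, by omega⟩
  rw [Finset.prod_range_succ', Nat.add_sub_cancel]
  simp only [zero_add, pow_one]
  ring

theorem sub_dvd {q k : ℕ} : q - 1 ∣ q ^ k - 1 := by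
  simpa using Nat.sub_dvd_pow_sub_pow q 1 k

theorem linear {G : Type u} [Group G] (h : Ext p G) {n q : ℕ} (hn : 3 ≤ n) (hq : 2 ≤ q)
    (hM : Nat.gcd n (q - 1) * Nat.card G = q ^ (n * (n - 1) / 2) * ∏ i ∈ Finset.range (n - 1), (q ^ (i + 2) - 1)) :
    (p ∣ q → n = 3 ∧ ¬ p ^ 2 ∣ q) ∧ (p = 2 → 2 ∣ q) ∧ (p ≠ 2 → p ∣ q - 1 → n ≤ 4 ∧ p ≠ 3) := by
  have hp : p.Prime := Fact.out
  refine ⟨fun hpq => ?_, ?_, ?_⟩
  · refine char_case h (g := fun k => q ^ k - 1) hn hM hpq ?_
    have := not_dvd_sub_one (k := 1) hp hpq one_ne_zero (by omega) dvd_rfl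
    rwa [pow_one] at this
  · rintro rfl
    by_contra h2
    have ho : Odd q := by
      rw [← Nat.not_even_iff_odd, even_iff_two_dvd]
      exact h2
    have h21 : 2 ∣ q - 1 := by
      obtain ⟨k, hk⟩ := ho
      exact ⟨k, by omega⟩
    refine two_case h (g := fun k => q ^ k - 1) hn hM (by omega) ?_ (eight_dvd ho) (h21.trans sub_dvd)
      (sixteen_dvd ho)
    have h3 : q ^ 2 - 1 = (q + 1) * (q - 1) := by
      rw [← Nat.sq_sub_sq, one_pow]
    change 2 * (q - 1) ∣ q ^ 2 - 1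
    rw [h3]
    refine mul_dvd_mul_right ?_ _
    obtain ⟨k, hk⟩ := ho
    exact ⟨k + 1, by omega⟩
  · intro hp2 hps
    have hodd : Odd p := hp.odd_of_ne_two hp2
    have hs0 : q - 1 ≠ 0 := by omega
    have hlift : ∀ r : ℕ, r.Prime → Odd r → r ∣ q - 1 → (q ^ r - 1).factorization r = (q - 1).factorization r + 1 := by
      intro r hr hro hrs
      have : Fact r.Prime := ⟨hr⟩
      have hrq : ¬ r ∣ q := by
        intro h1
        have := (Nat.dvd_sub_iff_right (by omega : 1 ≤ q) h1).1 hrs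
        exact hr.one_lt.ne' (Nat.dvd_one.1 this)
      have h1 := padicValNat.pow_sub_pow (p := r) (x := q) (y := 1) hro (by omega) hrs hrq (n := r) hr.ne_zero
      rw [one_pow, padicValNat_self] at h1
      rw [Nat.factorization_def _ hr, Nat.factorization_def _ hr]
      exact h1
    have hn4 : n ≤ 4 := by
      refine le_four h (g := fun k => q ^ k - 1) hM hs0 hps (fun k _ => sub_dvd) ?_
      intro h5
      have h6 : (q - 1) * 5 ∣ q ^ 5 - 1 := by
        have h7 : q ^ 5 - 1 = (q - 1) * (q ^ 4 + q ^ 3 + q ^ 2 + q + 1) := by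
          obtain ⟨k, rfl⟩ : ∃ k, q = k + 1 := ⟨q - 1, by omega⟩
          rw [Nat.add_sub_cancel]
          refine Nat.sub_eq_of_eq_add ?_
          ring
        rw [h7]
        refine mul_dvd_mul_left _ ?_
        have h8 : q % 5 = 1 := by omega
        rw [Nat.dvd_iff_mod_eq_zero, Nat.add_mod, Nat.add_mod (q ^ 4 + q ^ 3 + q ^ 2),
          Nat.add_mod (q ^ 4 + q ^ 3), Nat.add_mod (q ^ 4), Nat.pow_mod q 4, Nat.pow_mod q 3, Nat.pow_mod q 2, h8]
      rw [mul_comm]
      exact h6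
    refine ⟨hn4, ?_⟩
    rintro rfl
    have hq3 : q % 3 = 1 := by omega
    have h3 : q ^ 2 - 1 = (q - 1) * (q + 1) := by
      rw [mul_comm, ← Nat.sq_sub_sq, one_pow]
    refine three_case h (g := fun k => q ^ k - 1) (t := q + 1) hn hn4 hM hs0 hps (by omega) h3 (by omega) ?_
      (hlift 3 hp hodd hps) sub_dvd
    have : 2 ^ 3 ≤ q ^ 3 := Nat.pow_le_pow_left hq 3
    omega

/-! ### unitary groups -/

theorem add_dvd_odd {q k : ℕ} (hk : Odd k) : q + 1 ∣ q ^ k + 1 := by
  simpa using Odd.nat_add_dvd_pow_add_pow q 1 hk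

theorem add_dvd_even {q k : ℕ} (hk : Even k) : q + 1 ∣ q ^ k - 1 := by
  obtain ⟨j, rfl⟩ := hk
  have h1 : q + 1 ∣ q ^ 2 - 1 := by
    have h3 : q ^ 2 - 1 = (q + 1) * (q - 1) := by
      rw [← Nat.sq_sub_sq, one_pow]
    rw [h3]
    exact Dvd.intro _ rfl
  refine h1.trans ?_
  rw [← two_mul, pow_mul]
  exact sub_dvd

theorem unitary {G : Type u} [Group G] (h : Ext p G) {n q : ℕ} (hn : 3 ≤ n) (hq : 2 ≤ q)
    (hM : Nat.gcd n (q + 1) * Nat.card G = q ^ (n * (n - 1) / 2) *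
      ∏ i ∈ Finset.range (n - 1), (if Even (i + 2) then q ^ (i + 2) - 1 else q ^ (i + 2) + 1)) :
    (p ∣ q → n = 3 ∧ ¬ p ^ 2 ∣ q) ∧ (p = 2 → 2 ∣ q) ∧ (p ≠ 2 → p ∣ q + 1 → n ≤ 4 ∧ p ≠ 3) := by
  have hp : p.Prime := Fact.out
  refine ⟨fun hpq => ?_, ?_, ?_⟩
  · refine char_case h (g := fun k => if Even k then q ^ k - 1 else q ^ k + 1) hn hM hpq ?_
    have := not_dvd_add_one (k := 1) hp hpq one_ne_zero dvd_rfl
    rwa [pow_one] at this
  · rintro rfl
    by_contra h2
    have ho : Odd q := by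
      rw [← Nat.not_even_iff_odd, even_iff_two_dvd]
      exact h2
    have h21 : 2 ∣ q - 1 := by
      obtain ⟨k, hk⟩ := ho
      exact ⟨k, by omega⟩
    refine two_case h (g := fun k => if Even k then q ^ k - 1 else q ^ k + 1) hn hM (by omega) ?_ (eight_dvd ho) ?_
      (sixteen_dvd ho)
    · have h3 : q ^ 2 - 1 = (q - 1) * (q + 1) := by
        rw [mul_comm, ← Nat.sq_sub_sq, one_pow]
      change 2 * (q + 1) ∣ q ^ 2 - 1
      rw [h3]
      exact mul_dvd_mul_right h21 _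
    · change 2 ∣ q ^ 3 + 1
      exact even_iff_two_dvd.1 ((ho.pow).add_one)
  · intro hp2 hps
    have hodd : Odd p := hp.odd_of_ne_two hp2
    have hs0 : q + 1 ≠ 0 := by omega
    have hg : ∀ k, 2 ≤ k → q + 1 ∣ (if Even k then q ^ k - 1 else q ^ k + 1) := by
      intro k _
      split_ifs with hk
      · exact add_dvd_even hk
      · exact add_dvd_odd (Nat.not_even_iff_odd.1 hk)
    have hlift : ∀ r : ℕ, r.Prime → Odd r → r ∣ q + 1 → (q ^ r + 1).factorization r = (q + 1).factorization r + 1 := by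
      intro r hr hro hrs
      have : Fact r.Prime := ⟨hr⟩
      have hrq : ¬ r ∣ q := by
        intro h1
        have := (Nat.dvd_add_right h1).1 hrs
        exact hr.one_lt.ne' (Nat.dvd_one.1 this)
      have h1 := padicValNat.pow_add_pow (p := r) (x := q) (y := 1) hro hrs hrq (n := r) hro
      rw [one_pow, padicValNat_self] at h1
      rw [Nat.factorization_def _ hr, Nat.factorization_def _ hr]
      exact h1
    have hn4 : n ≤ 4 := by
      refine le_four h (g := fun k => if Even k then q ^ k - 1 else q ^ k + 1) hM hs0 hps hg ?_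
      intro h5
      change 5 * (q + 1) ∣ q ^ 5 + 1
      have h7 : q ^ 5 + 1 = (q ^ 4 + q ^ 2 + 1 - (q ^ 3 + q)) * (q + 1) := by
        have h8 : q ^ 3 + q ≤ q ^ 4 + q ^ 2 + 1 := by nlinarith [Nat.pow_le_pow_right (by omega : 1 ≤ q) (by norm_num : 3 ≤ 4), Nat.pow_le_pow_right (by omega : 1 ≤ q) (by norm_num : 1 ≤ 2)]
        zify [h8]
        ring
      rw [h7]
      refine mul_dvd_mul_right ?_ _
      have h8 : q % 5 = 4 := by omega
      have h9 : q ^ 3 + q ≤ q ^ 4 + q ^ 2 + 1 := by nlinarith [Nat.pow_le_pow_right (by omega : 1 ≤ q) (by norm_num : 3 ≤ 4), Nat.pow_le_pow_right (by omega : 1 ≤ q) (by norm_num : 1 ≤ 2)]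
      refine (Nat.modEq_iff_dvd' h9).1 ?_
      change (q ^ 3 + q) % 5 = (q ^ 4 + q ^ 2 + 1) % 5
      rw [Nat.add_mod, Nat.add_mod (q ^ 4 + q ^ 2), Nat.add_mod (q ^ 4), Nat.pow_mod q 4, Nat.pow_mod q 3,
        Nat.pow_mod q 2, h8]
    refine ⟨hn4, ?_⟩
    rintro rfl
    have hq3 : q % 3 = 2 := by omega
    have h3 : q ^ 2 - 1 = (q + 1) * (q - 1) := by
      rw [← Nat.sq_sub_sq, one_pow]
    exact three_case h (g := fun k => if Even k then q ^ k - 1 else q ^ k + 1) (t := q - 1) hn hn4 hM hs0 hps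
      (by omega) h3 (by omega) (Nat.succ_ne_zero _) (hlift 3 hp hodd hps) (hg 4 (by norm_num))

end Cfsg.Agent.H616.ExtLU
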