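import Cfsg.Agent.H92.ExtP
import Mathlib.NumberTheory.Multiplicity
import Mathlib.NumberTheory.Padics.PadicVal.Basic

/-!
# Arithmetic of the orders of the classical groups for `Ext p G` (helper616, for S2215)
-/

set_option autoImplicit false

namespace Cfsg.Agent.H616.ExtNum

open Cfsg.Agent.H92.ExtP

universe u

variable {p : ℕ} [Fact p.Prime] {G : Type u} [Group G]

omit [Fact p.Prime] in
theorem ext_ne_zero (h : Ext p G) : Nat.card G ≠ 0 := fun h0 => h.not_dvd (h0 ▸ dvd_zero _)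

theorem ext_fact (h : Ext p G) : (Nat.card G).factorization p = 3 := by
  have hp : p.Prime := Fact.out
  have h1 := (hp.pow_dvd_iff_le_factorization (ext_ne_zero h)).1 h.dvd
  have h2 : ¬ 4 ≤ (Nat.card G).factorization p := fun h3 =>
    h.not_dvd ((hp.pow_dvd_iff_le_factorization (ext_ne_zero h)).2 h3)
  omega

/-- too large a power of `p` divides the order -/
theorem ext_false (h : Ext p G) {d M c : ℕ} (hM : d * Nat.card G = M) (h1 : p ^ (c + 4) ∣ M)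
    (hd : ¬ p ^ (c + 1) ∣ d) : False := by
  have hp : p.Prime := Fact.out
  have hG := ext_ne_zero h
  have hd0 : d ≠ 0 := fun h0 => hd (h0 ▸ dvd_zero _)
  have h2 := ext_fact h
  have h3 : d.factorization p < c + 1 := by
    by_contra h4
    exact hd ((hp.pow_dvd_iff_le_factorization hd0).2 (not_lt.1 h4))
  rw [← hM] at h1
  have h4 := (hp.pow_dvd_iff_le_factorization (mul_ne_zero hd0 hG)).1 h1
  rw [Nat.factorization_mul hd0 hG, Finsupp.add_apply] at h4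
  omega

theorem dvd_sub_one {a q k : ℕ} (hq : 1 ≤ q) (h : q ^ k % a = 1 % a) : a ∣ q ^ k - 1 :=
  (Nat.modEq_iff_dvd' (Nat.one_le_pow _ _ hq)).1 h.symm

theorem eight_dvd {q : ℕ} (hq : Odd q) : 8 ∣ q ^ 2 - 1 := by
  refine dvd_sub_one hq.pos ?_
  have h1 : q % 8 = 1 ∨ q % 8 = 3 ∨ q % 8 = 5 ∨ q % 8 = 7 := by
    have := Nat.odd_iff.1 hq
    omega
  rw [Nat.pow_mod]
  rcases h1 with h | h | h | h <;> rw [h]

theorem sixteen_dvd {q : ℕ} (hq : Odd q) : 16 ∣ q ^ 4 - 1 := by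
  refine dvd_sub_one hq.pos ?_
  have h1 : q % 16 = 1 ∨ q % 16 = 3 ∨ q % 16 = 5 ∨ q % 16 = 7 ∨ q % 16 = 9 ∨ q % 16 = 11 ∨ q % 16 = 13 ∨
      q % 16 = 15 := by
    have := Nat.odd_iff.1 hq
    omega
  rw [Nat.pow_mod]
  rcases h1 with h | h | h | h | h | h | h | h <;> rw [h]

theorem three_dvd {q : ℕ} (hq : ¬ 3 ∣ q) {k : ℕ} (hk : Even k) : 3 ∣ q ^ k - 1 := by
  have hq0 : 1 ≤ q := by
    rcases Nat.eq_zero_or_pos q with h | h
    · exact absurd (h ▸ dvd_zero 3) hq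
    · exact h
  refine dvd_sub_one hq0 ?_
  obtain ⟨j, rfl⟩ := hk
  have h1 : q ^ 2 % 3 = 1 := by
    have h1 : q % 3 = 1 ∨ q % 3 = 2 := by omega
    rw [Nat.pow_mod]
    rcases h1 with h | h <;> rw [h]
  rw [← two_mul, pow_mul, Nat.pow_mod, h1, one_pow]

theorem nine_dvd {q : ℕ} (hq : ¬ 3 ∣ q) : 9 ∣ q ^ 6 - 1 := by
  have hq0 : 1 ≤ q := by
    rcases Nat.eq_zero_or_pos q with h | h
    · exact absurd (h ▸ dvd_zero 3) hq
    · exact h
  refine dvd_sub_one hq0 ?_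
  have h1 : q % 9 = 1 ∨ q % 9 = 2 ∨ q % 9 = 4 ∨ q % 9 = 5 ∨ q % 9 = 7 ∨ q % 9 = 8 := by omega
  rw [Nat.pow_mod]
  rcases h1 with h | h | h | h | h | h <;> rw [h]

theorem not_pow_dvd_of_dvd {d e k : ℕ} (h : d ∣ e) (h2 : ¬ k ∣ e) : ¬ k ∣ d := fun h3 => h2 (h3.trans h)

/-- the symplectic type product -/
theorem two_dvd_prod {q m : ℕ} (hq : Odd q) (hm : 2 ≤ m) :
    2 ^ 7 ∣ ∏ i ∈ Finset.range m, (q ^ (2 * (i + 1)) - 1) := by
  refine dvd_trans ?_ (Finset.prod_dvd_prod_of_subset (Finset.range 2) _ _ (Finset.range_subset_range.2 hm))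
  rw [Finset.prod_range_succ, Finset.prod_range_succ, Finset.prod_range_zero, one_mul,
    show (2 : ℕ) ^ 7 = 8 * 16 by norm_num]
  exact mul_dvd_mul (eight_dvd hq) (sixteen_dvd hq)

theorem three_dvd_prod {q m : ℕ} (hq : ¬ 3 ∣ q) (hm : 3 ≤ m) :
    3 ^ 4 ∣ ∏ i ∈ Finset.range m, (q ^ (2 * (i + 1)) - 1) := by
  refine dvd_trans ?_ (Finset.prod_dvd_prod_of_subset (Finset.range 3) _ _ (Finset.range_subset_range.2 hm))
  rw [Finset.prod_range_succ, Finset.prod_range_succ, Finset.prod_range_succ, Finset.prod_range_zero, one_mul,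
    show (3 : ℕ) ^ 4 = 3 * 3 * 9 by norm_num]
  exact mul_dvd_mul (mul_dvd_mul (three_dvd hq ⟨1, rfl⟩) (three_dvd hq ⟨2, rfl⟩)) (nine_dvd hq)

/-- `p` divides `q`: for the groups whose `p`-part is a large power of `q` -/
theorem ext_false_of_dvd (h : Ext p G) {d M q e : ℕ} (hM : d * Nat.card G = M) (hq : p ∣ q) (he : 4 ≤ e)
    (h1 : q ^ e ∣ M) (hd : ¬ p ∣ d) : False :=
  ext_false h (c := 0) hM ((pow_dvd_pow_of_dvd hq 4).trans ((pow_dvd_pow q he).trans h1)) (by simpa using hd)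

omit [Fact p.Prime] in
theorem not_dvd_sub_one {q k d : ℕ} (hp : p.Prime) (hq : p ∣ q) (hk : k ≠ 0) (hq0 : 1 ≤ q) (hd : d ∣ q ^ k - 1) :
    ¬ p ∣ d := by
  intro h
  have h1 : p ∣ q ^ k := dvd_pow hq hk
  have h2 := (Nat.dvd_sub_iff_right (Nat.one_le_pow k q hq0) h1).1 (h.trans hd)
  exact hp.one_lt.ne' (Nat.dvd_one.1 h2)

omit [Fact p.Prime] in
theorem not_dvd_add_one {q k d : ℕ} (hp : p.Prime) (hq : p ∣ q) (hk : k ≠ 0) (hd : d ∣ q ^ k + 1) :
    ¬ p ∣ d := by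
  intro h
  have h1 : p ∣ q ^ k := dvd_pow hq hk
  have h2 := (Nat.dvd_add_right h1).1 (h.trans hd)
  exact hp.one_lt.ne' (Nat.dvd_one.1 h2)

/-- symplectic and odd orthogonal groups -/
theorem sp_false (h : Ext p G) {q m d : ℕ} (hm : 2 ≤ m) (hq : 2 ≤ q) (hd2 : d ∣ 2) (hdq : d ∣ q ^ 1 - 1)
    (hM : d * Nat.card G = q ^ (m ^ 2) * ∏ i ∈ Finset.range m, (q ^ (2 * (i + 1)) - 1))
    (hp : p = 2 ∨ (p = 3 ∧ 3 ≤ m) ∨ p ∣ q) : False := by
  have hpp : p.Prime := Fact.out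
  have main : p ∣ q → False := fun hpq =>
    ext_false_of_dvd h hM hpq (e := m ^ 2) (by nlinarith) (Dvd.intro _ rfl)
      (not_dvd_sub_one hpp hpq one_ne_zero (by omega) hdq)
  rcases hp with rfl | ⟨rfl, hm3⟩ | hpq
  · by_cases h2 : 2 ∣ q
    · exact main h2
    · have ho : Odd q := by
        rw [← Nat.not_even_iff_odd, even_iff_two_dvd]
        exact h2
      refine ext_false h (c := 1) hM ?_ ?_
      · exact ((pow_dvd_pow 2 (by norm_num : 1 + 4 ≤ 7)).trans (two_dvd_prod ho hm)).mul_left _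
      · exact not_pow_dvd_of_dvd hd2 (by norm_num)
  · by_cases h3 : 3 ∣ q
    · exact main h3
    · refine ext_false h (c := 0) hM ?_ ?_
      · exact (three_dvd_prod h3 hm3).mul_left _
      · exact not_pow_dvd_of_dvd hd2 (by norm_num)
  · exact main hpq

/-- even orthogonal groups -/
theorem oe_false (h : Ext p G) {q m d w : ℕ} (hm : 4 ≤ m) (hd2 : d ∣ 4) (hdw : ∀ r, r.Prime → r ∣ q → ¬ r ∣ d)
    (hM : d * Nat.card G = q ^ (m * (m - 1)) * w * ∏ i ∈ Finset.range (m - 1), (q ^ (2 * (i + 1)) - 1))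
    (hp : p = 2 ∨ p = 3 ∨ p ∣ q) : False := by
  have hpp : p.Prime := Fact.out
  have he : 4 ≤ m * (m - 1) := le_trans hm (Nat.le_mul_of_pos_right _ (by omega))
  have main : p ∣ q → False := fun hpq =>
    ext_false_of_dvd h hM hpq (e := m * (m - 1)) he ((Dvd.intro _ rfl : _ ∣ _ * w).mul_right _) (hdw p hpp hpq)
  rcases hp with rfl | rfl | hpq
  · by_cases h2 : 2 ∣ q
    · exact main h2
    · have ho : Odd q := by
        rw [← Nat.not_even_iff_odd, even_iff_two_dvd]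
        exact h2
      refine ext_false h (c := 2) hM ?_ ?_
      · exact ((pow_dvd_pow 2 (by norm_num : 2 + 4 ≤ 7)).trans (two_dvd_prod ho (by omega))).mul_left _
      · exact not_pow_dvd_of_dvd hd2 (by norm_num)
  · by_cases h3 : 3 ∣ q
    · exact main h3
    · refine ext_false h (c := 0) hM ?_ ?_
      · exact (three_dvd_prod h3 (by omega)).mul_left _
      · exact not_pow_dvd_of_dvd hd2 (by norm_num)
  · exact main hpq

end Cfsg.Agent.H616.ExtNum
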